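import Groth.Agent.DRingLib.RgammaHat
import Groth.Agent.DRingLib.LBaseChange
import Groth.Agent.S1812

/-!
Exact functors on modules commute with the coreflection onto torsion cohomology.
-/

set_option autoImplicit false
set_option linter.style.haveILetI false
set_option linter.unusedSectionVars false
set_option backward.isDefEq.respectTransparency false
set_option maxHeartbeats 400000

universe u

open CategoryTheory CategoryTheory.Limits
open CategoryTheory.Pretriangulated (Triangle)
open Groth.Agent.DCompLib (resM extM resD extD φA)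

attribute [local instance] HasDerivedCategory.standard

noncomputable section

namespace LcCxLib

open Groth.Agent.DRingLib

variable {A : Type u} [CommRing A] [IsNoetherianRing A]

/-- Multiplication by `g` is bijective. -/
def IsBij (g : A) (M : Type u) [AddCommGroup M] [Module A M] : Prop :=
  Function.Bijective fun x : M => g • x

omit [IsNoetherianRing A] in
theorem isBij_of_equiv {g : A} {M N : Type u} [AddCommGroup M] [Module A M] [AddCommGroup N] [Module A N]
    (e : M ≃ₗ[A] N) (h : IsBij g M) : IsBij g N := by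
  have h1 : (fun x : N => g • x) = e ∘ (fun x : M => g • x) ∘ e.symm := funext fun x => by
    simp
  show Function.Bijective _
  rw [h1]
  exact e.bijective.comp (h.comp e.symm.bijective)

theorem isBij_locD (g : A) (R : Dual.D A) (i : ℤ) : IsBij g (Dual.HD A ((locD g).obj R) i) := by
  haveI := isLocalizedModule_HD_toLocD (g := g) R i
  have := IsLocalizedModule.map_units ((hF A i).map (toLocD g R)).hom
    (⟨g, 1, pow_one g⟩ : Submonoid.powers g)
  rw [Module.End.isUnit_iff] at this
  exact this

/-- Objects on which `g` is invertible are local at `g`. -/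
theorem isIso_toLocD (g : A) (W : Dual.D A) (h : ∀ i, IsBij g (Dual.HD A W i)) :
    IsIso (toLocD g W) := by
  rw [DerivedCategory.isIso_iff]
  intro i
  haveI := isLocalizedModule_HD_toLocD (g := g) W i
  have hpow : ∀ n : ℕ, Function.Bijective fun x : Dual.HD A W i => g ^ n • x := fun n => by
    induction n with
    | zero => simp only [pow_zero, one_smul]; exact Function.bijective_id
    | succ n ih =>
      have : (fun x : Dual.HD A W i => g ^ (n + 1) • x) = (fun x => g ^ n • x) ∘ (fun x => g • x) :=
        funext fun x => by simp [pow_succ, mul_smul]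
      rw [this]
      exact ih.comp (h i)
  rw [ConcreteCategory.isIso_iff_bijective]
  refine ⟨fun x y hxy => ?_, fun y => ?_⟩
  · obtain ⟨⟨_, n, rfl⟩, hn⟩ :=
      (IsLocalizedModule.eq_iff_exists (Submonoid.powers g) ((hF A i).map (toLocD g W)).hom).1 hxy
    exact (hpow n).1 hn
  · obtain ⟨⟨x, ⟨_, n, rfl⟩⟩, hn⟩ :=
      IsLocalizedModule.surj (Submonoid.powers g) ((hF A i).map (toLocD g W)).hom y
    obtain ⟨x', rfl⟩ := (hpow n).2 x
    refine ⟨x', IsLocalizedModule.smul_injective ((hF A i).map (toLocD g W)).hom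
      (⟨g ^ n, n, rfl⟩ : Submonoid.powers g) ?_⟩
    exact (map_smul ((hF A i).map (toLocD g W)).hom (g ^ n) x').symm.trans hn.symm

variable {A' : Type u} [CommRing A'] [IsNoetherianRing A']
  (F : ModuleCat.{u} A ⥤ ModuleCat.{u} A') [F.Additive] [PreservesFiniteLimits F]
  [PreservesFiniteColimits F]

/-- A pair of compatible elements. -/
structure Compat (s : A) (t : A') : Prop where
  tors : ∀ M : ModuleCat.{u} A, IsTorsM s M → IsTorsM t (F.obj M)
  bij : ∀ M : ModuleCat.{u} A, IsBij s M → IsBij t (F.obj M)

theorem isCoref_map_exists (l : List (A × A')) (hl : ∀ p ∈ l, Compat F p.1 p.2) (X : Dual.D A) :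
    ∃ (R : Dual.D A) (u : R ⟶ X), IsCoref (l.map Prod.fst) u ∧
      IsCoref (l.map Prod.snd) (F.mapDerivedCategory.map u) := by
  induction l with
  | nil =>
    refine ⟨X, 𝟙 X, isCoref_id fun g hg => absurd hg List.not_mem_nil, ?_⟩
    rw [CategoryTheory.Functor.map_id]
    exact isCoref_id fun g hg => absurd hg List.not_mem_nil
  | cons p l ih =>
    obtain ⟨R, u, hu, hu'⟩ := ih fun q hq => hl q (List.mem_cons_of_mem p hq)
    obtain ⟨hpt, hpb⟩ := hl p List.mem_cons_self
    obtain ⟨R', v, q, hv⟩ := Pretriangulated.distinguished_cocone_triangle₁ (toLocD p.1 R)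
    have hcor := isCoref_step hu hv
    refine ⟨R', v ≫ u, hcor, fun g hg i => ?_, fun T hT => ?_⟩
    · obtain ⟨e⟩ := exists_homology_iso_mapDerived F R' i
      obtain ⟨p', hp', rfl⟩ := List.mem_map.1 hg
      exact isTorsM_of_surjective e.inv e.symm.toLinearEquiv.surjective
        ((hl p' hp').tors _ (hcor.1 p'.1 (List.mem_map.2 ⟨p', hp', rfl⟩) i))
    · let D := F.mapDerivedCategory.mapTriangle.obj (Triangle.mk v (toLocD p.1 R) q)
      have hD : D ∈ distTriang (Dual.D A') := F.mapDerivedCategory.map_distinguished _ hv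
      let W := F.mapDerivedCategory.obj ((locD p.1).obj R)
      haveI := isIso_toLocD p.2 W fun i => by
        obtain ⟨e⟩ := exists_homology_iso_mapDerived F ((locD p.1).obj R) i
        exact isBij_of_equiv e.symm.toLinearEquiv (hpb _ (isBij_locD p.1 R i))
      let eW : W ≅ (resD p.2).obj ((extD p.2).obj W) := asIso (toLocD p.2 W)
      let D' : Triangle (Dual.D A') := Triangle.mk D.mor₁ (D.mor₂ ≫ eW.hom) (eW.inv ≫ D.mor₃)
      have hD' : D' ∈ distTriang (Dual.D A') := by
        refine Pretriangulated.isomorphic_distinguished _ hD _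
          (Triangle.isoMk _ _ (Iso.refl _) (Iso.refl _) eW.symm ?_ ?_ ?_)
        · exact (Category.comp_id _).trans (Category.id_comp _).symm
        · exact ((Category.assoc _ _ _).trans (congrArg (D.mor₂ ≫ ·) eW.hom_inv_id)).trans
            ((Category.comp_id _).trans (Category.id_comp _).symm)
        · change (eW.inv ≫ D.mor₃) ≫ (shiftFunctor _ (1 : ℤ)).map (𝟙 _) = eW.inv ≫ D.mor₃
          rw [CategoryTheory.Functor.map_id]
          exact Category.comp_id _
      have hb := bijective_comp_of_loc (g := p.2) (l := (p :: l).map Prod.snd)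
        (by simp) hD' hT
      have h3 := (hu'.2 T fun g hg => hT g (List.mem_cons_of_mem p.2 hg)).comp hb
      convert h3 using 1
      funext t
      show t ≫ F.mapDerivedCategory.map (v ≫ u) = (t ≫ F.mapDerivedCategory.map v) ≫ F.mapDerivedCategory.map u
      rw [Functor.map_comp, Category.assoc]

/-- Local cohomology commutes with such functors. -/
theorem exists_HDI_map (I : Ideal A) (I' : Ideal A') (l : List (A × A')) (hl : ∀ p ∈ l, Compat F p.1 p.2)
    (hI : Ideal.span {a | a ∈ l.map Prod.fst} = I) (hI' : Ideal.span {a | a ∈ l.map Prod.snd} = I')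
    (X : Dual.D A) (i : ℤ) :
    ∃ H : ModuleCat.{u} A, Nonempty (H ≃ₗ[A] Dual2.HDI A I X i) ∧
      Nonempty ((F.obj H) ≃ₗ[A'] Dual2.HDI A' I' (F.mapDerivedCategory.obj X) i) := by
  haveI : DRing.HasRgammaI I :=
    Groth.Agent.DerLib.KInjDerived.hasRightDerivedFunctor _ (Groth.Agent.DerLib.KInjDerived.enoughKInj _)
  haveI : DRing.HasRgammaI I' :=
    Groth.Agent.DerLib.KInjDerived.hasRightDerivedFunctor _ (Groth.Agent.DerLib.KInjDerived.enoughKInj _)
  obtain ⟨R, u, hu, hu'⟩ := isCoref_map_exists F l hl X
  obtain ⟨e, -⟩ := hu.exists_iso (isCoref_RgammaIε _ I hI X)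
  obtain ⟨e', -⟩ := hu'.exists_iso (isCoref_RgammaIε _ I' hI' (F.mapDerivedCategory.obj X))
  obtain ⟨f⟩ := Groth.Agent.S1812.result A I (IsNoetherian.noetherian I) X i
  obtain ⟨f'⟩ := Groth.Agent.S1812.result A' I' (IsNoetherian.noetherian I') (F.mapDerivedCategory.obj X) i
  obtain ⟨c⟩ := exists_homology_iso_mapDerived F R i
  exact ⟨(DerivedCategory.homologyFunctor (ModuleCat.{u} A) i).obj R,
    ⟨((DerivedCategory.homologyFunctor _ i).mapIso e).toLinearEquiv.trans f⟩,
    ⟨c.symm.toLinearEquiv.trans (((DerivedCategory.homologyFunctor _ i).mapIso e').toLinearEquiv.trans f')⟩⟩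

end LcCxLib

end
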