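import Groth.Agent.LcCxLib.RgammaMap
import Groth.Agent.DCompLib.LQuot

/-!
Derived base change commutes with the coreflection onto torsion cohomology.
-/

set_option autoImplicit false
set_option linter.style.haveILetI false
set_option linter.unusedSectionVars false
set_option backward.isDefEq.respectTransparency false

universe u

open CategoryTheory CategoryTheory.Limits
open CategoryTheory.Pretriangulated (Triangle)
open Groth.Agent.DCompLib (resM extM resD extD φA)
open CochainComplex (mappingCone)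

attribute [local instance] HasDerivedCategory.standard

noncomputable section

namespace LcCxLib

open Groth.Agent.DRingLib

variable {A A' : Type u} [CommRing A] [CommRing A'] (φ : A →+* A')

/-- Base change of complexes. -/
abbrev extC : CochainComplex (ModuleCat.{u} A) ℤ ⥤ CochainComplex (ModuleCat.{u} A') ℤ :=
  (ModuleCat.extendScalars.{u, u, u} φ).mapHomologicalComplex (ComplexShape.up ℤ)

/-- Every morphism of `D(A)` comes from a map of K-flat complexes. -/
theorem exists_kFlat_rep {X Y : Dual.D A} (f : X ⟶ Y) :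
    ∃ (P Q : CochainComplex (ModuleCat.{u} A) ℤ) (g : P ⟶ Q) (_ : DRing.IsKFlat A P) (_ : DRing.IsKFlat A Q)
      (e₁ : DerivedCategory.Q.obj P ≅ X) (e₂ : DerivedCategory.Q.obj Q ≅ Y),
      DerivedCategory.Q.map g ≫ e₂.hom = e₁.hom ≫ f := by
  obtain ⟨P₁, h₁, ⟨e₁⟩⟩ := exists_good_rep X
  obtain ⟨P₂, h₂, ⟨e₂⟩⟩ := exists_good_rep Y
  obtain ⟨P', s, hs, g, hf⟩ := DerivedCategory.right_fac (e₁.hom ≫ f ≫ e₂.inv)
  have hψ : IsIso (DerivedCategory.Q.map ((resψ A).app P')) := by
    haveI := quasiIso_resψ (R := A) P'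
    infer_instance
  have hiso : IsIso (DerivedCategory.Q.map ((resψ A).app P' ≫ s)) := by
    rw [Functor.map_comp]
    exact @IsIso.comp_isIso _ _ _ _ _ _ _ hψ hs
  refine ⟨(resP A).obj P', P₂, (resψ A).app P' ≫ g, (good_resP P').1, h₂.1,
    @asIso _ _ _ _ (DerivedCategory.Q.map ((resψ A).app P' ≫ s)) hiso ≪≫ e₁, e₂, ?_⟩
  have hg : DerivedCategory.Q.map g = DerivedCategory.Q.map s ≫ e₁.hom ≫ f ≫ e₂.inv := by
    rw [hf, IsIso.hom_inv_id_assoc]
  change DerivedCategory.Q.map ((resψ A).app P' ≫ g) ≫ e₂.hom =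
    (DerivedCategory.Q.map ((resψ A).app P' ≫ s) ≫ e₁.hom) ≫ f
  rw [Functor.map_comp, Functor.map_comp, Category.assoc, hg]
  simp only [Category.assoc, Iso.inv_hom_id, Category.comp_id]

theorem extend_map_smul_id {A B : Type u} [CommRing A] [CommRing B] (φ : A →+* B) (g : A)
    (M : ModuleCat.{u} A) :
    (ModuleCat.extendScalars.{u, u, u} φ).map (g • 𝟙 M) = φ g • 𝟙 _ := by
  apply ((ModuleCat.extendRestrictScalarsAdj.{u, u, u} φ).homEquiv _ _).injective
  rw [Adjunction.homEquiv_unit, Adjunction.homEquiv_unit]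
  refine (((ModuleCat.extendRestrictScalarsAdj.{u, u, u} φ).unit.naturality (g • 𝟙 M)).symm).trans ?_
  refine ModuleCat.hom_ext (LinearMap.ext fun x => ?_)
  exact map_smul ((ModuleCat.extendRestrictScalarsAdj.{u, u, u} φ).unit.app M).hom g x

variable [DRing.HasLBaseChange φ]

/-- Derived base change is exact, with the given maps. -/
theorem exists_L_triangle {R' R G : Dual.D A} {v : R' ⟶ R} {w : R ⟶ G} {q : G ⟶ R'⟦(1 : ℤ)⟧}
    (hv : Triangle.mk v w q ∈ distTriang (Dual.D A)) :
    ∃ δ, Triangle.mk ((DRing.LBaseChange φ).map v) ((DRing.LBaseChange φ).map w) δ ∈ distTriang (Dual.D A') := by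
  obtain ⟨P, Q, g, hP, hQ, e₁, e₂, hg⟩ := exists_kFlat_rep v
  let C := mappingCone g
  have hC : DRing.IsKFlat A C := KFlatLib.isKFlat_mappingCone hP hQ g
  obtain ⟨e, he1, he2⟩ := Pretriangulated.exists_iso_of_arrow_iso
    (DerivedCategory.Q.mapTriangle.obj (CochainComplex.mappingCone.triangle g)) (Triangle.mk v w q)
    (DerivedCategory.mappingCone_triangle_distinguished _) hv (Arrow.isoMk e₁ e₂ hg.symm)
  let L := DRing.LBaseChange φ
  let κ := fun (Z : CochainComplex (ModuleCat.{u} A) ℤ) (hZ : DRing.IsKFlat A Z) => lBaseChangeObjIso φ Z hZ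
  let T := DerivedCategory.Q.mapTriangle.obj (CochainComplex.mappingCone.triangle ((extC φ).map g))
  let ec : DerivedCategory.Q.obj ((extC φ).obj C) ≅ DerivedCategory.Q.obj (mappingCone ((extC φ).map g)) :=
    DerivedCategory.Q.mapIso (CochainComplex.mappingCone.mapHomologicalComplexIso g _)
  let a₁ : L.obj R' ≅ T.obj₁ := L.mapIso (Triangle.π₁.mapIso e).symm ≪≫ κ P hP
  let a₂ : L.obj R ≅ T.obj₂ := L.mapIso (Triangle.π₂.mapIso e).symm ≪≫ κ Q hQ
  let a₃ : L.obj G ≅ T.obj₃ := L.mapIso (Triangle.π₃.mapIso e).symm ≪≫ κ C hC ≪≫ ec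
  refine ⟨a₃.hom ≫ T.mor₃ ≫ (shiftFunctor _ (1 : ℤ)).map a₁.inv, Pretriangulated.isomorphic_distinguished _
    (DerivedCategory.mappingCone_triangle_distinguished ((extC φ).map g)) _
    (Triangle.isoMk _ T a₁ a₂ a₃ ?_ ?_ ?_)⟩
  · change L.map v ≫ L.map e.inv.hom₂ ≫ (κ Q hQ).hom = (L.map e.inv.hom₁ ≫ (κ P hP).hom) ≫ T.mor₁
    have h1 : v ≫ e.inv.hom₂ = e.inv.hom₁ ≫ DerivedCategory.Q.map g := e.inv.comm₁
    rw [← Category.assoc, ← Functor.map_comp, h1, Functor.map_comp, Category.assoc, Category.assoc]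
    exact congrArg (L.map e.inv.hom₁ ≫ ·) (lBaseChangeObjIso_natural φ hP hQ g)
  · change L.map w ≫ L.map e.inv.hom₃ ≫ (κ C hC).hom ≫ ec.hom = (L.map e.inv.hom₂ ≫ (κ Q hQ).hom) ≫ T.mor₂
    have h2 : w ≫ e.inv.hom₃ = e.inv.hom₂ ≫ DerivedCategory.Q.map (CochainComplex.mappingCone.inr g) :=
      e.inv.comm₂
    rw [← Category.assoc, ← Functor.map_comp, h2, Functor.map_comp, Category.assoc, Category.assoc]
    refine congrArg (L.map e.inv.hom₂ ≫ ·) ?_
    rw [← Category.assoc, lBaseChangeObjIso_natural φ hQ hC, Category.assoc]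
    refine congrArg ((κ Q hQ).hom ≫ ·) ?_
    exact (DerivedCategory.Q.map_comp _ _).symm.trans
      (congrArg DerivedCategory.Q.map (CochainComplex.mappingCone.map_inr g _))
  · change (a₃.hom ≫ T.mor₃ ≫ (shiftFunctor _ (1 : ℤ)).map a₁.inv) ≫ (shiftFunctor _ (1 : ℤ)).map a₁.hom =
      a₃.hom ≫ T.mor₃
    rw [Category.assoc, Category.assoc, ← Functor.map_comp, Iso.inv_hom_id, CategoryTheory.Functor.map_id,
      Category.comp_id]

/-- Derived base change is semilinear. -/
theorem lBase_map_smul_id (a : A) (X : Dual.D A) :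
    (DRing.LBaseChange φ).map (a • 𝟙 X) = φ a • 𝟙 _ := by
  obtain ⟨P, hP, ⟨e⟩⟩ := exists_good_rep X
  have hX : a • 𝟙 X = e.inv ≫ DerivedCategory.Q.map (a • 𝟙 P) ≫ e.hom := by
    rw [Functor.map_smul, CategoryTheory.Functor.map_id, Linear.smul_comp, Linear.comp_smul,
      Category.id_comp, Iso.inv_hom_id]
  have hE : (extC φ).map (a • 𝟙 P) = φ a • 𝟙 ((extC φ).obj P) := by
    refine HomologicalComplex.Hom.ext (funext fun n => ?_)
    exact (Functor.mapHomologicalComplex_map_f _ _ _ _).trans (extend_map_smul_id φ a (P.X n))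
  have hQ : (DRing.LBaseChange φ).map (DerivedCategory.Q.map (a • 𝟙 P)) = φ a • 𝟙 _ := by
    rw [← cancel_mono (lBaseChangeObjIso φ P hP.1).hom, lBaseChangeObjIso_natural φ hP.1 hP.1, hE,
      Functor.map_smul, CategoryTheory.Functor.map_id, Linear.smul_comp, Linear.comp_smul, Category.id_comp,
      Category.comp_id]
  rw [hX, Functor.map_comp, Functor.map_comp, hQ, Linear.smul_comp, Category.id_comp, Linear.comp_smul,
    ← Functor.map_comp, Iso.inv_hom_id, CategoryTheory.Functor.map_id]

/-- Derived base change preserves torsion cohomology. -/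
theorem isTorsM_lBase (g : A) {R : Dual.D A} (hR : ∀ i, IsTorsM g (Dual.HD A R i)) (i : ℤ) :
    IsTorsM (φ g) (Dual.HD A' ((DRing.LBaseChange φ).obj R) i) := by
  obtain ⟨P, hP, ⟨e⟩⟩ := exists_good_rep R
  let h := φA (φ g)
  let φg : Localization.Away g →+* Localization.Away (φ g) := Localization.awayMap φ g
  have hc : φg.comp (φA g) = h.comp φ :=
    RingHom.ext fun a => by simp [φg, h, Localization.awayMap, IsLocalization.Away.map, IsLocalization.map_eq]
  have hP0 : KFlatLib.Acyclic' (((extM g).mapHomologicalComplex (ComplexShape.up ℤ)).obj P) := by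
    intro n
    have hz : IsZero ((extD g).obj (DerivedCategory.Q.obj P)) :=
      (isZero_extD_of_tors g hR).of_iso ((extD g).mapIso e)
    exact (((DerivedCategory.homologyFunctor _ n).map_isZero
      (hz.of_iso ((extM g).mapDerivedCategoryFactors.app P).symm)).of_iso
        ((DerivedCategory.homologyFunctorFactors _ n).app _).symm)
  have h2 := KFlatLib.acyclic_extend φg (KFlatLib.isKFlat_extend (φA g) hP.1) hP0
  let i1 : extM g ⋙ ModuleCat.extendScalars.{u, u, u} φg ≅
      ModuleCat.extendScalars.{u, u, u} φ ⋙ extM (φ g) :=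
    (ModuleCat.extendScalarsComp.{u} (φA g) φg).symm ≪≫ eqToIso (by rw [hc]) ≪≫
      ModuleCat.extendScalarsComp.{u} φ h
  have h3 : KFlatLib.Acyclic' (((extM (φ g)).mapHomologicalComplex (ComplexShape.up ℤ)).obj ((extC φ).obj P)) :=
    KFlatLib.acyclic_of_iso (HomologicalComplex.Hom.isoOfComponents (fun n => i1.app (P.X n))
      (fun j k _ => (i1.hom.naturality (P.d j k)).symm)) h2
  refine tors_of_isZero_extD (φ g) ?_ i
  refine IsZero.of_iso ?_ ((extD (φ g)).mapIso
    ((DRing.LBaseChange φ).mapIso e.symm ≪≫ lBaseChangeObjIso φ P hP.1) ≪≫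
      (extM (φ g)).mapDerivedCategoryFactors.app ((extC φ).obj P))
  rw [IsZero.iff_id_eq_zero]
  haveI : IsIso (0 : DerivedCategory.Q.obj (((extM (φ g)).mapHomologicalComplex (ComplexShape.up ℤ)).obj
      ((extC φ).obj P)) ⟶ DerivedCategory.Q.obj (((extM (φ g)).mapHomologicalComplex (ComplexShape.up ℤ)).obj
      ((extC φ).obj P))) := by
    rw [DerivedCategory.isIso_iff]
    intro n
    have hz := (h3 n).of_iso ((DerivedCategory.homologyFunctorFactors _ n).app _)
    exact ⟨0, hz.eq_of_src _ _, hz.eq_of_src _ _⟩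
  exact (IsIso.hom_inv_id (0 : DerivedCategory.Q.obj (((extM (φ g)).mapHomologicalComplex (ComplexShape.up ℤ)).obj
      ((extC φ).obj P)) ⟶ DerivedCategory.Q.obj (((extM (φ g)).mapHomologicalComplex (ComplexShape.up ℤ)).obj
      ((extC φ).obj P)))).symm.trans zero_comp

variable [IsNoetherianRing A] [IsNoetherianRing A']

/-- Derived base change commutes with coreflections. -/
theorem isCoref_lBase_exists (l : List A) (X : Dual.D A) :
    ∃ (R : Dual.D A) (u : R ⟶ X), IsCoref l u ∧ IsCoref (l.map φ) ((DRing.LBaseChange φ).map u) := by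
  induction l with
  | nil =>
    refine ⟨X, 𝟙 X, isCoref_id fun g hg => absurd hg List.not_mem_nil, ?_⟩
    rw [CategoryTheory.Functor.map_id]
    exact isCoref_id fun g hg => absurd hg List.not_mem_nil
  | cons g l ih =>
    obtain ⟨R, u, hu, hu'⟩ := ih
    obtain ⟨R', v, q, hv⟩ := Pretriangulated.distinguished_cocone_triangle₁ (toLocD g R)
    have hcor := isCoref_step hu hv
    refine ⟨R', v ≫ u, hcor, fun g' hg' i => ?_, fun T hT => ?_⟩
    · obtain ⟨g'', hg'', rfl⟩ := List.mem_map.1 hg'
      exact isTorsM_lBase φ g'' (hcor.1 g'' hg'') i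
    · obtain ⟨δ, hD⟩ := exists_L_triangle φ hv
      let W := (DRing.LBaseChange φ).obj ((locD g).obj R)
      haveI : IsIso (g • 𝟙 ((locD g).obj R)) := by
        rw [DerivedCategory.isIso_iff]
        intro i
        rw [ConcreteCategory.isIso_iff_bijective]
        exact (funext fun x => Groth.Agent.DCompLib.map_smul_id g _ i x :
          (⇑((DerivedCategory.homologyFunctor (ModuleCat.{u} A) i).map (g • 𝟙 ((locD g).obj R))).hom) =
            fun x => g • x) ▸ isBij_locD g R i
      have hW : IsIso (φ g • 𝟙 W) := by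
        rw [← lBase_map_smul_id]
        infer_instance
      haveI := isIso_toLocD (φ g) W fun i => by
        have := (ConcreteCategory.isIso_iff_bijective
          ((DerivedCategory.homologyFunctor (ModuleCat.{u} A') i).map (φ g • 𝟙 W))).1 inferInstance
        show Function.Bijective _
        convert this using 1
        exact funext fun x => (Groth.Agent.DCompLib.map_smul_id (φ g) _ i x).symm
      let eW : W ≅ (resD (φ g)).obj ((extD (φ g)).obj W) := asIso (toLocD (φ g) W)
      let D := Triangle.mk ((DRing.LBaseChange φ).map v) ((DRing.LBaseChange φ).map (toLocD g R)) δ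
      let D' : Triangle (Dual.D A') := Triangle.mk D.mor₁ (D.mor₂ ≫ eW.hom) (eW.inv ≫ D.mor₃)
      have hD' : D' ∈ distTriang (Dual.D A') := by
        refine Pretriangulated.isomorphic_distinguished _ hD _
          (Triangle.isoMk _ _ (Iso.refl _) (Iso.refl _) eW.symm ?_ ?_ ?_)
        · exact (Category.comp_id _).trans (Category.id_comp _).symm
        · exact ((Category.assoc _ _ _).trans (congrArg (D.mor₂ ≫ ·) eW.hom_inv_id)).trans
            ((Category.comp_id _).trans (Category.id_comp _).symm)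
        · change (eW.inv ≫ D.mor₃) ≫ (shiftFunctor _ (1 : ℤ)).map (𝟙 _) = eW.inv ≫ D.mor₃
          rw [CategoryTheory.Functor.map_id]
          exact Category.comp_id _
      have hb := bijective_comp_of_loc (g := φ g) (l := (g :: l).map φ) (by simp) hD' hT
      have h3 := (hu'.2 T fun g' hg' => hT g' (List.mem_cons_of_mem (φ g) hg')).comp hb
      convert h3 using 1
      funext t
      show t ≫ (DRing.LBaseChange φ).map (v ≫ u) =
        (t ≫ (DRing.LBaseChange φ).map v) ≫ (DRing.LBaseChange φ).map u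
      rw [Functor.map_comp, Category.assoc]

/-- Derived base change commutes with `RΓ`. -/
theorem exists_lBase_RgammaI_iso (I : Ideal A) (J : Ideal A') (hJ : J = I.map φ) [DRing.HasRgammaI I]
    [DRing.HasRgammaI J] (X : Dual.D A) :
    Nonempty ((DRing.LBaseChange φ).obj ((DRing.RgammaI I).obj X) ≅
      (DRing.RgammaI J).obj ((DRing.LBaseChange φ).obj X)) := by
  obtain ⟨l, hl⟩ := exists_list_span' I
  obtain ⟨R, u, hu, hu'⟩ := isCoref_lBase_exists φ l X
  obtain ⟨e, -⟩ := (isCoref_RgammaIε l I hl X).exists_iso hu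
  have hJ' : Ideal.span {a | a ∈ l.map φ} = J := by
    rw [hJ, ← hl, Ideal.map_span]
    congr 1
    ext b
    simp [List.mem_map]
  obtain ⟨e', -⟩ := hu'.exists_iso (isCoref_RgammaIε _ J hJ' ((DRing.LBaseChange φ).obj X))
  exact ⟨(DRing.LBaseChange φ).mapIso e ≪≫ e'⟩

end LcCxLib

end
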