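import Groth.Agent.LcFinLib.Gamma
import Mathlib

/-!
Cohomology with support in `T` of a complex, in elementary terms.
-/

set_option autoImplicit false
set_option linter.style.haveILetI false
universe u

open CategoryTheory
open LcFinLib

noncomputable section

namespace LcCxLib

variable {A : Type u} [CommRing A] (T : Set (PrimeSpectrum A))
  (E : CochainComplex (ModuleCat.{u} A) ℤ)

/-- The cycles in degree `i`. -/
abbrev cyc (i : ℤ) : Submodule A (E.X i) := LinearMap.ker (E.d i (i + 1)).hom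

/-- The differential into the cycles in degree `i`. -/
def piE (i : ℤ) : E.X (i - 1) →ₗ[A] cyc E i :=
  (E.d (i - 1) i).hom.codRestrict _ fun w => by
    show (E.d i (i + 1)).hom ((E.d (i - 1) i).hom w) = 0
    rw [← LinearMap.comp_apply, ← ModuleCat.hom_comp, HomologicalComplex.d_comp_d]
    rfl

theorem piE_coe (i : ℤ) (w : E.X (i - 1)) : (piE E i w : E.X i) = (E.d (i - 1) i).hom w := rfl

/-- The differential on sections supported in `T`. -/
def gamPi (i : ℤ) : gam T (E.X (i - 1)) →ₗ[A] gam T (cyc E i) :=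
  (piE E i).restrict fun _ hw => map_mem_gam (piE E i) hw

theorem gamPi_coe (i : ℤ) (w : gam T (E.X (i - 1))) : (gamPi T E i w).1 = piE E i w.1 := rfl

/-- The cohomology with support in `T`. -/
abbrev HT (i : ℤ) : Type u := (gam T (cyc E i)) ⧸ LinearMap.range (gamPi T E i)

/-- `a` kills the cohomology with support in `T` in degree `i`. -/
def Kill (i : ℤ) (a : A) : Prop :=
  ∀ z ∈ gam T (cyc E i), ∃ w ∈ gam T (E.X (i - 1)), piE E i w = a • z

theorem mem_gam_cyc {i : ℤ} {z : cyc E i} : z ∈ gam T (cyc E i) ↔ (z : E.X i) ∈ gam T (E.X i) :=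
  ⟨fun h => map_mem_gam (cyc E i).subtype h,
    fun h => mem_gam_of_injective (cyc E i).subtype Subtype.val_injective h⟩

theorem kill_iff (i : ℤ) (a : A) : (∀ x : HT T E i, a • x = 0) ↔ Kill T E i a := by
  constructor
  · intro h z hz
    obtain ⟨w, hw⟩ := (Submodule.Quotient.mk_eq_zero _).1
      ((Submodule.Quotient.mk_smul _ a (⟨z, hz⟩ : gam T (cyc E i))).trans (h _))
    exact ⟨w.1, w.2, congrArg Subtype.val hw⟩
  · intro h x
    obtain ⟨z, rfl⟩ := Submodule.Quotient.mk_surjective _ x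
    obtain ⟨w, hw, hwz⟩ := h z.1 z.2
    rw [← Submodule.Quotient.mk_smul, Submodule.Quotient.mk_eq_zero]
    exact ⟨⟨w, hw⟩, Subtype.ext hwz⟩

theorem kill_zero (i : ℤ) : Kill T E i 0 := fun z _ =>
  ⟨0, zero_mem _, by rw [map_zero, zero_smul]⟩

theorem Kill.add {i : ℤ} {a b : A} (ha : Kill T E i a) (hb : Kill T E i b) : Kill T E i (a + b) :=
  fun z hz => by
    obtain ⟨w, hw, hwz⟩ := ha z hz
    obtain ⟨v, hv, hvz⟩ := hb z hz
    exact ⟨w + v, add_mem hw hv, by rw [map_add, hwz, hvz, add_smul]⟩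

theorem Kill.mul {i : ℤ} {a : A} (ha : Kill T E i a) (c : A) : Kill T E i (c * a) := fun z hz => by
  obtain ⟨w, hw, hwz⟩ := ha z hz
  exact ⟨c • w, Submodule.smul_mem _ c hw, by rw [map_smul, hwz, mul_smul]⟩

/-- The elements killing the cohomology in degree `i`. -/
def killIdeal (i : ℤ) : Ideal A where
  carrier := {a | Kill T E i a}
  zero_mem' := kill_zero T E i
  add_mem' := fun ha hb => Kill.add T E ha hb
  smul_mem' := fun c _ ha => Kill.mul T E ha c

theorem mem_gam_top (i : ℤ) (x : HT T E i) : x ∈ gam T (HT T E i) := by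
  obtain ⟨z, rfl⟩ := Submodule.Quotient.mk_surjective _ x
  exact map_mem_gam (LinearMap.range (gamPi T E i)).mkQ (by rw [gam_gam]; trivial)

theorem zeroLocus_prod_subset {ι : Type*} (s : Finset ι) (J : ι → Ideal A)
    (h : ∀ i ∈ s, PrimeSpectrum.zeroLocus (J i : Set A) ⊆ T) :
    PrimeSpectrum.zeroLocus ((∏ i ∈ s, J i : Ideal A) : Set A) ⊆ T := fun r hr => by
  obtain ⟨i, hi, hle⟩ := (Ideal.IsPrime.prod_le r.isPrime).1
    (show (∏ i ∈ s, J i) ≤ r.asIdeal from hr)
  exact h i hi hle

/-- A finite cohomology module is killed by an ideal with zero locus in `T`. -/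
theorem exists_ideal_of_finite (i : ℤ) [Module.Finite A (HT T E i)] :
    ∃ J : Ideal A, PrimeSpectrum.zeroLocus (J : Set A) ⊆ T ∧ ∀ a ∈ J, Kill T E i a := by
  refine ⟨Module.annihilator A (HT T E i), fun r hr => ?_,
    fun a ha => (kill_iff T E i a).1 fun x => Module.mem_annihilator.1 ha x⟩
  by_contra hrT
  obtain ⟨m, hm⟩ := Module.mem_support_iff'.1 (Module.mem_support_iff_of_finite.2 hr :
    r ∈ Module.support A (HT T E i))
  obtain ⟨s, hs, hsm⟩ := mem_gam_iff.1 (mem_gam_top T E i m) r hrT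
  exact hm s hs hsm

/-- Below the bottom degree the cohomology vanishes. -/
theorem subsingleton_HT {i : ℤ} (h : Subsingleton (E.X i)) : Subsingleton (HT T E i) := by
  haveI := h
  infer_instance

theorem kill_of_subsingleton {i : ℤ} (h : Subsingleton (E.X i)) (a : A) : Kill T E i a := fun z _ => by
  haveI := h
  exact ⟨0, zero_mem _, Subsingleton.elim _ _⟩

end LcCxLib

end
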