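import Groth.Agent.LcCxLib.Model

/-!
`HDT` and `HDI` on injective models.
-/

set_option autoImplicit false
set_option linter.style.haveILetI false
set_option backward.isDefEq.respectTransparency false

universe u

open CategoryTheory CategoryTheory.Limits Opposite
open LcFinLib

attribute [local instance] HasDerivedCategory.standard

noncomputable section

namespace LcCxLib

variable {A : Type u} [CommRing A] {E : CochainComplex (ModuleCat.{u} A) ℤ} {K : Dual.D A}

/-- The model of a shift. -/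
def shiftModel (eE : DerivedCategory.Q.obj E ≅ K) (q : ℤ) : DerivedCategory.Q.obj (E⟦q⟧) ≅ K⟦q⟧ :=
  (DerivedCategory.Q.commShiftIso q).app E ≪≫ (shiftFunctor _ q).mapIso eE

instance isCofiltered_idealsIn (T : Set (PrimeSpectrum A)) : IsCofiltered (Dual2.IdealsIn T) where
  cone_objs J J' := by
    refine ⟨⟨J.obj * J'.obj, ?_⟩, ⟨homOfLE Ideal.mul_le_left⟩, ⟨homOfLE Ideal.mul_le_right⟩, trivial⟩
    show PrimeSpectrum.zeroLocus ((J.obj * J'.obj : Ideal A) : Set A) ⊆ T
    rw [PrimeSpectrum.zeroLocus_mul]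
    exact Set.union_subset J.property J'.property
  cone_maps {J J'} f g := ⟨J, 𝟙 J, ObjectProperty.hom_ext _ (Subsingleton.elim _ _)⟩
  nonempty := ⟨⟨⊤, fun q hq => absurd (top_le_iff.1 hq) q.isPrime.ne_top⟩⟩

theorem exists_HDT_equiv [E.IsKInjective] (eE : DerivedCategory.Q.obj E ≅ K)
    (T : Set (PrimeSpectrum A)) (q : ℤ) :
    Nonempty (Dual2.HDT A T K q ≃ₗ[A] HT T E q) := by
  haveI : (E⟦q⟧).IsKInjective := inferInstance
  haveI := preservesFilteredColimitsOfSize_shrink.{u, u + 1, u, u + 1} (forget AddCommGrpCat.{u + 1})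
  haveI : PreservesColimitsOfShape (Dual2.IdealsIn T)ᵒᵖ (forget (ModuleCat.{u + 1} A)) :=
    comp_preservesColimitsOfShape (forget₂ (ModuleCat.{u + 1} A) AddCommGrpCat.{u + 1}) (forget AddCommGrpCat.{u + 1})
  obtain ⟨e₁⟩ := exists_equiv (shiftModel eE q) (T := T) (Dual2.idealsInDiagram T) (fun J => J.property)
    (fun J hJ => ⟨⟨J, hJ⟩, le_rfl⟩)
  obtain ⟨e₂⟩ := nonempty_HT_shift T E q
  exact ⟨e₁.trans e₂⟩

theorem exists_HDI_equiv [IsNoetherianRing A] [E.IsKInjective] (eE : DerivedCategory.Q.obj E ≅ K)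
    (I : Ideal A) (q : ℤ) :
    Nonempty (Dual2.HDI A I K q ≃ₗ[A] HT (PrimeSpectrum.zeroLocus (I : Set A)) E q) := by
  haveI : (E⟦q⟧).IsKInjective := inferInstance
  haveI := preservesFilteredColimitsOfSize_shrink.{0, u + 1, 0, u + 1} (forget AddCommGrpCat.{u + 1})
  haveI : PreservesColimitsOfShape (ℕᵒᵖ)ᵒᵖ (forget (ModuleCat.{u + 1} A)) :=
    comp_preservesColimitsOfShape (forget₂ (ModuleCat.{u + 1} A) AddCommGrpCat.{u + 1}) (forget AddCommGrpCat.{u + 1})
  obtain ⟨e₁⟩ := exists_equiv (shiftModel eE q) (T := PrimeSpectrum.zeroLocus (I : Set A))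
    (localCohomology.idealPowersDiagram I) (fun n r hr => by
      rcases Nat.eq_zero_or_pos n.unop with h0 | h0
      · have : I ^ n.unop ≤ r.asIdeal := hr
        rw [h0, pow_zero, Ideal.one_eq_top, top_le_iff] at this
        exact absurd this r.isPrime.ne_top
      · exact (Ideal.IsPrime.pow_le_iff (P := r.asIdeal) h0.ne').1 hr)
    (fun J hJ => by
      have h : I ≤ J.radical := by
        have h1 := PrimeSpectrum.vanishingIdeal_anti_mono hJ
        rw [PrimeSpectrum.vanishingIdeal_zeroLocus_eq_radical,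
          PrimeSpectrum.vanishingIdeal_zeroLocus_eq_radical] at h1
        exact Ideal.le_radical.trans h1
      obtain ⟨n, hn⟩ := Ideal.exists_pow_le_of_le_radical_of_fg h (IsNoetherian.noetherian I)
      exact ⟨op n, hn⟩)
  obtain ⟨e₂⟩ := nonempty_HT_shift (PrimeSpectrum.zeroLocus (I : Set A)) E q
  exact ⟨e₁.trans e₂⟩

end LcCxLib

end
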