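import Groth.Agent.DRingLib.Rgamma
import Groth.Agent.S1812

/-!
Local cohomology of complexes vanishes far above the cohomology.
-/

set_option autoImplicit false
set_option linter.style.haveILetI false
set_option linter.unusedSectionVars false
set_option backward.isDefEq.respectTransparency false

universe u

open CategoryTheory CategoryTheory.Limits
open CategoryTheory.Pretriangulated (Triangle)
open Groth.Agent.DCompLib (resM extM resD extD)

attribute [local instance] HasDerivedCategory.standard

noncomputable section

namespace LcCxLib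

open Groth.Agent.DRingLib

variable {A : Type u} [CommRing A]

theorem subsingleton_locD (g : A) {R : Dual.D A} (i : ℤ) (h : Subsingleton (Dual.HD A R i)) :
    Subsingleton (Dual.HD A ((locD g).obj R) i) := by
  obtain ⟨e⟩ := exists_homology_iso_mapDerived (resM g) ((extD g).obj R) i
  obtain ⟨e'⟩ := exists_homology_iso_mapDerived (extM g) R i
  have hz : IsZero ((DerivedCategory.homologyFunctor (ModuleCat.{u} A) i).obj R) :=
    haveI := h
    ModuleCat.isZero_of_subsingleton _
  exact ModuleCat.subsingleton_of_isZero
    ((((extM g).map_isZero hz).of_iso e' |> (resM g).map_isZero).of_iso e)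

theorem exists_coref_bounded (X : Dual.D A) (c : ℤ) (h : ∀ i, c ≤ i → Subsingleton (Dual.HD A X i)) :
    ∀ l : List A, ∃ (R : Dual.D A) (u : R ⟶ X), IsCoref l u ∧
      ∀ i, c + l.length ≤ i → Subsingleton (Dual.HD A R i)
  | [] => ⟨X, 𝟙 X, isCoref_id fun g hg => absurd hg List.not_mem_nil,
      fun i hi => h i (by simpa using hi)⟩
  | g :: l => by
    obtain ⟨R, u, hu, hR⟩ := exists_coref_bounded X c h l
    obtain ⟨R', v, q, hv⟩ := Pretriangulated.distinguished_cocone_triangle₁ (toLocD g R)
    refine ⟨R', v ≫ u, isCoref_step hu hv, fun i hi => ?_⟩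
    simp only [List.length_cons, Nat.cast_add, Nat.cast_one] at hi
    haveI := hR i (by omega)
    haveI := subsingleton_locD g (i - 1) (hR (i - 1) (by omega))
    refine ModuleCat.subsingleton_of_isZero
      ((DerivedCategory.HomologySequence.exact₁ _ hv (i - 1) i (by omega)).isZero_of_both_zeros ?_ ?_)
    · exact IsZero.eq_of_src (ModuleCat.isZero_of_subsingleton
        ((DerivedCategory.homologyFunctor (ModuleCat.{u} A) (i - 1)).obj ((locD g).obj R))) _ _
    · exact IsZero.eq_of_tgt (ModuleCat.isZero_of_subsingleton
        ((DerivedCategory.homologyFunctor (ModuleCat.{u} A) i).obj R)) _ _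

/-- Cohomological dimension, for complexes. -/
theorem exists_cd_bound [IsNoetherianRing A] (I : Ideal A) :
    ∃ r : ℕ, ∀ (X : Dual.D A) (c : ℤ), (∀ i, c ≤ i → Subsingleton (Dual.HD A X i)) →
      ∀ j, c + r ≤ j → Subsingleton (Dual2.HDI A I X j) := by
  haveI : DRing.HasRgammaI I :=
    Groth.Agent.DerLib.KInjDerived.hasRightDerivedFunctor _ (Groth.Agent.DerLib.KInjDerived.enoughKInj _)
  obtain ⟨l, hl⟩ := exists_list_span' I
  refine ⟨l.length, fun X c h j hj => ?_⟩
  obtain ⟨R, u, hu, hR⟩ := exists_coref_bounded X c h l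
  obtain ⟨e, -⟩ := hu.exists_iso (isCoref_RgammaIε l I hl X)
  obtain ⟨e'⟩ := Groth.Agent.S1812.result A I (IsNoetherian.noetherian I) X j
  haveI := hR j hj
  exact ((((DerivedCategory.homologyFunctor (ModuleCat.{u} A) j).mapIso e).toLinearEquiv.trans e').symm).toEquiv.subsingleton

end LcCxLib

end
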