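import Groth.Agent.DualCxLib.LocDualApps
import Groth.Agent.HLVTLib.Main
import Groth.Prelude.Def_DualLC

/-!
If the degree zero local cohomology of a normalized dualizing complex vanishes then the
cohomological dimension drops.
-/

set_option autoImplicit false
set_option linter.style.haveILetI false
set_option linter.unusedSectionVars false
set_option maxHeartbeats 800000

universe u

open CategoryTheory CategoryTheory.Limits Opposite
open Groth.Agent
open DTenLib.Point (hH sg)
open Groth.Agent.DualCxLib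
open scoped TensorProduct

attribute [local instance] HasDerivedCategory.standard

noncomputable section

namespace LcCxLib

variable {A : Type u} [CommRing A] [IsLocalRing A] [IsNoetherianRing A]

local notation "C" => AdicCompletion (IsLocalRing.maximalIdeal A) A
local notation "ψ" => algebraMap A (AdicCompletion (IsLocalRing.maximalIdeal A) A)

/-- Elements of the completion killed into `JC` by `m^N` come from the colon ideal. -/
theorem mem_map_colon (J : Ideal A) (N : ℕ) (t : C)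
    (ht : ∀ a ∈ IsLocalRing.maximalIdeal A ^ N, ψ a * t ∈ J.map ψ) :
    ∃ K : Ideal A, (∀ b ∈ K, ∀ a ∈ IsLocalRing.maximalIdeal A ^ N, a * b ∈ J) ∧ t ∈ K.map ψ := by
  classical
  obtain ⟨G, hG⟩ := (IsNoetherian.noetherian (IsLocalRing.maximalIdeal A ^ N) : Submodule.FG _)
  let f : A →ₗ[A] ({g // g ∈ G} → A ⧸ J) :=
    LinearMap.pi fun g => Submodule.mkQ J ∘ₗ LinearMap.mulLeft A g.1
  refine ⟨LinearMap.ker f, fun b hb a ha => ?_, ?_⟩
  · rw [← hG] at ha
    induction ha using Submodule.span_induction with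
    | mem a ha => exact (Submodule.Quotient.mk_eq_zero J).1 (congrFun (LinearMap.mem_ker.1 hb) ⟨a, ha⟩)
    | zero => rw [zero_mul]; exact J.zero_mem
    | add a a' _ _ h h' => rw [add_mul]; exact J.add_mem h h'
    | smul r a _ h => rw [smul_eq_mul, mul_assoc]; exact J.mul_mem_left r h
  · have hex : Function.Exact (LinearMap.ker f).subtype f := fun x =>
      ⟨fun hx => ⟨⟨x, hx⟩, rfl⟩, by rintro ⟨y, rfl⟩; exact y.2⟩
    have hzero : ∀ j ∈ J, ∀ c : C, (ψ j * c) ⊗ₜ[A] (Submodule.Quotient.mk 1 : A ⧸ J) = 0 := fun j hj c => by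
      rw [← Algebra.smul_def, TensorProduct.smul_tmul, ← Submodule.Quotient.mk_smul, smul_eq_mul, mul_one,
        (Submodule.Quotient.mk_eq_zero J).2 hj, TensorProduct.tmul_zero]
    have hspan : ∀ y ∈ J.map ψ, y ⊗ₜ[A] (Submodule.Quotient.mk 1 : A ⧸ J) = 0 := fun y hy => by
      suffices H : ∀ c : C, (y * c) ⊗ₜ[A] (Submodule.Quotient.mk 1 : A ⧸ J) = 0 by simpa using H 1
      induction hy using Submodule.span_induction with
      | mem y hy =>
        obtain ⟨j, hj, rfl⟩ := hy
        exact hzero j hj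
      | zero => intro c; rw [zero_mul, TensorProduct.zero_tmul]
      | add y y' _ _ h h' => intro c; rw [add_mul, TensorProduct.add_tmul, h, h', add_zero]
      | smul r y _ h => intro c; rw [smul_eq_mul, mul_comm r y, mul_assoc]; exact h (r * c)
    have h0 : LinearMap.lTensor C f (t ⊗ₜ[A] (1 : A)) = 0 := by
      rw [LinearMap.lTensor_tmul, ← Finset.univ_sum_single (f 1), TensorProduct.tmul_sum]
      refine Finset.sum_eq_zero fun g _ => ?_
      have hg : ψ g.1 * t ∈ J.map ψ := ht _ (hG ▸ Submodule.subset_span g.2)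
      have hval : f 1 g = g.1 • (Submodule.Quotient.mk 1 : A ⧸ J) := by
        show Submodule.Quotient.mk (g.1 * 1) = _
        rw [← Submodule.Quotient.mk_smul, smul_eq_mul]
      have h1 : t ⊗ₜ[A] (f 1 g) = 0 := by
        rw [hval, ← TensorProduct.smul_tmul, Algebra.smul_def]
        exact hspan _ hg
      have h2 := congrArg (LinearMap.lTensor C (LinearMap.single A (fun _ : {g // g ∈ G} => A ⧸ J) g)) h1
      rw [LinearMap.lTensor_tmul, map_zero] at h2
      exact h2
    haveI : Module.Flat A C := AdicCompletion.flat_of_isNoetherian _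
    obtain ⟨z, hz⟩ := (Module.Flat.lTensor_exact C hex _).1 h0
    have hkey : ∀ z : C ⊗[A] (LinearMap.ker f),
        TensorProduct.rid A C (LinearMap.lTensor C (LinearMap.ker f).subtype z) ∈ Ideal.map ψ (LinearMap.ker f) := by
      intro z
      induction z using TensorProduct.induction_on with
      | zero => rw [map_zero, map_zero]; exact zero_mem _
      | tmul c k =>
        rw [LinearMap.lTensor_tmul, TensorProduct.rid_tmul, Algebra.smul_def]
        exact Ideal.mul_mem_right _ _ (Ideal.mem_map_of_mem _ k.2)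
      | add a b ha hb => rw [map_add, map_add]; exact add_mem ha hb
    have := hkey z
    rwa [hz, TensorProduct.rid_tmul, one_smul] at this

/-- Such elements are congruent to elements of `A`. -/
theorem exists_descend (J : Ideal A) (N : ℕ) (t : C)
    (ht : ∀ a ∈ IsLocalRing.maximalIdeal A ^ N, ψ a * t ∈ J.map ψ) :
    ∃ b : A, (∀ a ∈ IsLocalRing.maximalIdeal A ^ N, a * b ∈ J) ∧ t - ψ b ∈ J.map ψ := by
  obtain ⟨K, hK, htK⟩ := mem_map_colon J N t ht
  suffices H : ∀ c : C, ∃ b ∈ K, t * c - ψ b ∈ J.map ψ by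
    obtain ⟨b, hb, hbt⟩ := H 1
    exact ⟨b, hK b hb, by rwa [mul_one] at hbt⟩
  clear ht
  induction htK using Submodule.span_induction with
  | mem y hy =>
    obtain ⟨k, hk, rfl⟩ := hy
    intro c
    obtain ⟨a, ha⟩ := AdicRingLib.exists_sub_mem_map_pow (IsNoetherian.noetherian _) N c
    refine ⟨k * a, K.mul_mem_right a hk, ?_⟩
    rw [map_mul, ← mul_sub]
    have h1 : ψ k * (c - ψ a) ∈ (Ideal.span {k} * IsLocalRing.maximalIdeal A ^ N).map ψ := by
      rw [Ideal.map_mul]
      exact Ideal.mul_mem_mul (Ideal.mem_map_of_mem _ (Ideal.mem_span_singleton_self k)) ha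
    refine Ideal.map_mono (Ideal.mul_le.2 fun r hr s hs => ?_) h1
    obtain ⟨r', rfl⟩ := Ideal.mem_span_singleton'.1 hr
    rw [mul_assoc, mul_comm k s]
    exact J.mul_mem_left r' (hK k hk s hs)
  | zero => exact fun c => ⟨0, K.zero_mem, by rw [zero_mul, map_zero, sub_zero]; exact zero_mem _⟩
  | add y y' _ _ h h' =>
    intro c
    obtain ⟨b, hb, hbt⟩ := h c
    obtain ⟨b', hb', hbt'⟩ := h' c
    refine ⟨b + b', K.add_mem hb hb', ?_⟩
    rw [add_mul, map_add, add_sub_add_comm]
    exact add_mem hbt hbt'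
  | smul r y _ h =>
    intro c
    obtain ⟨b, hb, hbt⟩ := h (r * c)
    exact ⟨b, hb, by rwa [smul_eq_mul, mul_comm r y, mul_assoc]⟩

theorem le_zero_of_not_one_le (x : WithBot ℕ∞) (h : ¬ (1 : WithBot ℕ∞) ≤ x) : x ≤ 0 := by
  cases x with
  | bot => exact bot_le
  | coe e =>
    cases e with
    | top => exact absurd (WithBot.coe_le_coe.2 le_top) h
    | coe k =>
      rcases k with _ | k
      · exact le_rfl
      · exact absurd (by exact_mod_cast Nat.le_add_left 1 k) h

theorem mul_mem_map_pow {R R' : Type u} [CommRing R] [CommRing R'] (φ : R →+* R') (I m : Ideal R)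
    (P : Ideal R') (t : R') (hkill : ∀ r ∈ P, r * t = 0) (c n : ℕ)
    (hc : m.map φ ^ c ≤ I.map φ ⊔ P) {a : R} (ha : a ∈ m ^ (c * n)) : φ a * t ∈ (I ^ n).map φ := by
  have h1 : φ a ∈ (I.map φ ⊔ P) ^ n := by
    refine Ideal.pow_right_mono hc n ?_
    rw [← pow_mul, ← Ideal.map_pow]
    exact Ideal.mem_map_of_mem _ ha
  have h2 : (I.map φ ⊔ P) ^ n ≤ (I.map φ) ^ n ⊔ P := by
    clear h1 ha
    induction n with
    | zero => simp
    | succ n ih =>
      rw [pow_succ]
      refine (Ideal.mul_mono ih le_rfl).trans ?_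
      refine Ideal.mul_le.2 fun x hx y hy => ?_
      obtain ⟨x₁, hx₁, x₂, hx₂, rfl⟩ := Submodule.mem_sup.1 hx
      obtain ⟨y₁, hy₁, y₂, hy₂, rfl⟩ := Submodule.mem_sup.1 hy
      rw [add_mul, mul_add]
      refine add_mem (add_mem (Submodule.mem_sup_left (Ideal.mul_mem_mul hx₁ hy₁))
        (Submodule.mem_sup_right (P.mul_mem_left x₁ hy₂))) (Submodule.mem_sup_right (P.mul_mem_right _ hx₂))
  obtain ⟨y, hy, z, hz, hyz⟩ := Submodule.mem_sup.1 (h2 h1)
  rw [← hyz, add_mul, hkill z hz, add_zero, Ideal.map_pow]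
  exact Ideal.mul_mem_right _ _ hy

variable {ω : Dual.D A} (hω : Dual.IsDualizing A ω) (hn : Dual.IsNormalized A ω) {I : Ideal A}
include hω hn

/-- A transition map vanishes on the torsion of `A/I^n`. -/
theorem exists_mem_pow (h0 : Subsingleton (Dual2.HDI A I ω 0)) (n : ℕ) (b : A) (N : ℕ)
    (hb : ∀ a ∈ IsLocalRing.maximalIdeal A ^ N, a * b ∈ I ^ n)
    (hlift : ∀ k, n ≤ k → ∃ (b' : A) (N' : ℕ), (∀ a ∈ IsLocalRing.maximalIdeal A ^ N', a * b' ∈ I ^ k) ∧
      b' - b ∈ I ^ n) :
    b ∈ I ^ n := by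
  obtain ⟨E, _, _, f, hf⟩ := InjHullLib.exists_injectiveHull (R := A) (IsLocalRing.ResidueField A)
  obtain ⟨T⟩ := nonempty_traces hω hn hf
  let M : ModuleCat.{u} A := ModuleCat.of A (A ⧸ I ^ n)
  let m := IsLocalRing.maximalIdeal A
  let S₀ := DRing.torsionSub m (A ⧸ I ^ n)
  by_contra hb0
  let x : S₀ := ⟨Submodule.Quotient.mk b, N, fun a ha => (Submodule.Quotient.mk_eq_zero _).2 (hb a ha)⟩
  have hx : x ≠ 0 := fun h => hb0 ((Submodule.Quotient.mk_eq_zero _).1 (congrArg Subtype.val h))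
  have hS₀ : LocCoh.IsPowerTorsion m S₀ := fun y => by
    obtain ⟨k, hk⟩ := y.2
    exact ⟨k, fun a ha => Subtype.ext (hk a ha)⟩
  obtain ⟨k₀, hk₀⟩ := exists_pow_kill_of_finite hS₀ (LinearMap.id : S₀ →ₗ[A] S₀)
  have hθ := theta_bijective hω hn T hf S₀ (k := k₀) fun a ha y => LinearMap.congr_fun (hk₀ a ha) y
  obtain ⟨q, hq⟩ : ∃ q, T.theta (ModuleCat.of A S₀) ⟨x, hS₀ x⟩ q ≠ 0 := by
    by_contra hcon
    simp only [not_exists, not_not] at hcon
    exact hx (congrArg Subtype.val (hθ.1 ((LinearMap.ext hcon).trans (map_zero (T.theta _)).symm)))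
  let S : ShortComplex (ModuleCat.{u} A) := ShortComplex.mk (ModuleCat.ofHom S₀.subtype) (ModuleCat.ofHom S₀.mkQ)
    (ModuleCat.hom_ext (LinearMap.ext fun y => (Submodule.Quotient.mk_eq_zero _).2 y.2))
  have hS : S.ShortExact :=
    { exact := (ShortComplex.moduleCat_exact_iff_range_eq_ker S).2
        ((Submodule.range_subtype _).trans (Submodule.ker_mkQ _).symm)
      mono_f := (ModuleCat.mono_iff_injective _).2 Subtype.val_injective
      epi_g := (ModuleCat.epi_iff_surjective _).2 (Submodule.mkQ_surjective _) }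
  obtain ⟨g, rfl⟩ := exists_extend hS 0 (subsingleton_ext_pos hω hn _ _ (by omega)) q
  haveI := preservesNat (A := A)
  let F : ℕᵒᵖᵒᵖ ⥤ ModuleCat.{u + 1} A :=
    (localCohomology.ringModIdeals (localCohomology.idealPowersDiagram I) ⋙
      DerivedCategory.singleFunctor (ModuleCat.{u} A) 0).op ⋙ (linearYoneda A (Dual.D A)).obj (ω⟦(0 : ℤ)⟧)
  obtain ⟨k, u₁, u₂, hu⟩ := Concrete.colimit_exists_of_rep_eq F (i := op (op n)) (j := op (op n))
    (g : sg M 0 ⟶ ω⟦(0 : ℤ)⟧) 0 (@Subsingleton.elim _ h0 _ _)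
  have hnk : n ≤ k.unop.unop := leOfHom u₁.unop.unop
  let fac : ModuleCat.of A (A ⧸ I ^ k.unop.unop) ⟶ M :=
    ModuleCat.ofHom (Submodule.factor (Ideal.pow_le_pow_right hnk))
  have hfac : extMap ω fac 0 g = 0 := by
    have h1 : (F.map u₁).hom g = 0 := hu.trans (map_zero _)
    exact h1
  obtain ⟨b', N', hb', hbb'⟩ := hlift _ hnk
  let N₂ := max N N'
  have hxb : ∀ a ∈ m ^ N₂, a • (Submodule.Quotient.mk b : M) = 0 := fun a ha =>
    (Submodule.Quotient.mk_eq_zero _).2 (hb a (Ideal.pow_le_pow_right (le_max_left N N') ha))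
  have hxb' : ∀ a ∈ m ^ N₂, a • (Submodule.Quotient.mk b' : ModuleCat.of A (A ⧸ I ^ k.unop.unop)) = 0 :=
    fun a ha => (Submodule.Quotient.mk_eq_zero _).2 (hb' a (Ideal.pow_le_pow_right (le_max_right N N') ha))
  apply hq
  rw [T.theta_apply (⟨x, hS₀ x⟩ : DRing.torsionSub m (ModuleCat.of A S₀)) N₂
    (fun a ha => Subtype.ext (hxb a ha)), ← extMap_comp]
  have he : eltMap (M := ModuleCat.of A S₀) N₂ x (fun a ha => Subtype.ext (hxb a ha)) ≫ S.f =
      eltMap (M := ModuleCat.of A (A ⧸ I ^ k.unop.unop)) N₂ (Submodule.Quotient.mk b') hxb' ≫ fac := by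
    rw [eltMap_comp, eltMap_comp]
    congr 1
    exact (Submodule.Quotient.eq _).2 (by rw [← neg_sub]; exact neg_mem hbb')
  rw [he, extMap_comp, hfac, map_zero, map_zero]

/-- The cohomological dimension is less than the dimension. -/
theorem subsingleton_H_of_HDI_zero (h0 : Subsingleton (Dual2.HDI A I ω 0)) (M : Type u) [AddCommGroup M]
    [Module A M] (i : ℕ) (hi : ringKrullDim A ≤ (i : WithBot ℕ∞)) : Subsingleton (LocCoh.H I i M) := by
  by_cases hItop : I = ⊤
  · refine subsingleton_of_forall_eq 0 fun x => ?_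
    obtain ⟨k, hk⟩ := LocCohLib.isPowerTorsion_H I i M x
    have h1 := hk 1 (by rw [hItop, ← Ideal.one_eq_top, one_pow, Ideal.one_eq_top]; exact Submodule.mem_top)
    rwa [one_smul] at h1
  obtain ⟨d, hd⟩ : ∃ d : ℕ, ringKrullDim A = d := by
    have h1 : ringKrullDim A ≠ ⊥ := ringKrullDim_ne_bot
    have h2 : ringKrullDim A ≠ ⊤ := ringKrullDim_ne_top
    revert h1 h2
    generalize ringKrullDim A = x
    intro h1 h2
    obtain ⟨e, rfl⟩ := WithBot.ne_bot_iff_exists.1 h1
    obtain ⟨k, rfl⟩ := ENat.ne_top_iff_exists.1 (show e ≠ ⊤ from fun h => h2 (by rw [h]; rfl))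
    exact ⟨k, rfl⟩
  refine HLVTLib.subsingleton_H_hlvt hd I (fun P hP _ => ?_) M (by rw [hd] at hi; exact_mod_cast hi)
  haveI : IsNoetherianRing C := AdicRingLib.isNoetherianRing_adicCompletion _
  by_contra hdim
  let Q := I.map ψ ⊔ P
  haveI hPp : P.IsPrime := hP.1.1
  have hIle : I.map ψ ≤ IsLocalRing.maximalIdeal C := by
    rw [AdicCompletion.maximalIdeal_eq_map]
    exact Ideal.map_mono (IsLocalRing.le_maximalIdeal hItop)
  have hQle : Q ≤ IsLocalRing.maximalIdeal C :=
    sup_le hIle (IsLocalRing.le_maximalIdeal hPp.ne_top)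
  haveI : Nontrivial (C ⧸ Q) := Ideal.Quotient.nontrivial_iff.2
    (ne_top_of_le_ne_top (IsLocalRing.maximalIdeal.isMaximal C).ne_top hQle)
  haveI : Ring.KrullDimLE 0 (C ⧸ Q) := Ring.krullDimLE_iff.2 (le_zero_of_not_one_le _ hdim)
  obtain ⟨c, hc⟩ : ∃ c, IsLocalRing.maximalIdeal C ^ c ≤ Q := by
    refine Ideal.exists_pow_le_of_le_radical_of_fg ?_ (IsNoetherian.noetherian _)
    rw [Ideal.radical_eq_sInf]
    refine le_sInf fun r ⟨hr, hrp⟩ => ?_
    haveI := hrp
    haveI : (r.map (Ideal.Quotient.mk Q)).IsPrime := Ideal.map_isPrime_of_surjective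
      Ideal.Quotient.mk_surjective (by rw [Ideal.mk_ker]; exact hr)
    have hmax : (r.map (Ideal.Quotient.mk Q)).IsMaximal := Ideal.isMaximal_of_isPrime _
    have hrmax : r.IsMaximal := by
      have h1 := Ideal.comap_isMaximal_of_surjective (Ideal.Quotient.mk Q) Ideal.Quotient.mk_surjective
        (K := r.map (Ideal.Quotient.mk Q))
      rwa [Ideal.comap_map_of_surjective' _ Ideal.Quotient.mk_surjective, Ideal.mk_ker,
        sup_eq_left.2 hr] at h1
    exact (IsLocalRing.eq_maximalIdeal hrmax).ge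
  have hass : P ∈ associatedPrimes C C :=
    Module.associatedPrimes.minimalPrimes_annihilator_subset_associatedPrimes C C
      (by rw [Module.annihilator_eq_bot.2 inferInstance]; exact hP)
  obtain ⟨-, t, ht⟩ := isAssociatedPrime_iff.1 hass
  have hkill : ∀ r ∈ P, r * t = 0 := fun r hr => by
    rw [ht, Submodule.mem_colon_singleton, Submodule.mem_bot] at hr
    exact hr
  have ht0 : t ≠ 0 := fun h => hPp.ne_top ((Ideal.eq_top_iff_one _).2 (by
    rw [ht, Submodule.mem_colon_singleton, Submodule.mem_bot, h, smul_zero]))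
  have hc' : (IsLocalRing.maximalIdeal A).map ψ ^ c ≤ I.map ψ ⊔ P := by
    rw [← AdicCompletion.maximalIdeal_eq_map]
    exact hc
  have hpow : ∀ n, ∀ a ∈ IsLocalRing.maximalIdeal A ^ (c * n), ψ a * t ∈ (I ^ n).map ψ := fun n a ha =>
    mul_mem_map_pow ψ I _ P t hkill c n hc' ha
  obtain ⟨n, hn'⟩ : ∃ n, t ∉ (I ^ n).map ψ := by
    by_contra hcon
    simp only [not_exists, not_not] at hcon
    refine ht0 ((Submodule.mem_bot C).1 ?_)
    rw [← Ideal.iInf_pow_eq_bot_of_isLocalRing (I.map ψ)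
      (ne_top_of_le_ne_top (IsLocalRing.maximalIdeal.isMaximal C).ne_top hIle)]
    exact Ideal.mem_iInf.2 fun k => (Ideal.map_pow ψ I k) ▸ hcon k
  obtain ⟨b, hb, hbt⟩ := exists_descend (I ^ n) (c * n) t (hpow n)
  have hbn : b ∈ I ^ n := exists_mem_pow hω hn h0 n b (c * n) hb fun k hk => by
    obtain ⟨b', hb', hbt'⟩ := exists_descend (I ^ k) (c * k) t (hpow k)
    refine ⟨b', c * k, hb', ?_⟩
    haveI := HLVTLib.faithfullyFlat_completion (R := A)
    rw [← Ideal.comap_map_eq_self_of_faithfullyFlat (B := C) (I ^ n), Ideal.mem_comap, map_sub,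
      show ψ b' - ψ b = (t - ψ b) - (t - ψ b') by ring]
    exact sub_mem hbt (Ideal.map_mono (Ideal.pow_le_pow_right hk) hbt')
  refine hn' ?_
  rw [show t = (t - ψ b) + ψ b by ring]
  exact add_mem hbt (Ideal.mem_map_of_mem _ hbn)

end LcCxLib

end
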