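import Groth.Agent.LcCxLib.Basic

/-!
The cone of multiplication by an element, elementarily.
-/

set_option autoImplicit false
set_option linter.style.haveILetI false
universe u

open CategoryTheory
open LcFinLib

noncomputable section

namespace LcCxLib

variable {A : Type u} [CommRing A] (T : Set (PrimeSpectrum A))
  (E : CochainComplex (ModuleCat.{u} A) ℤ)

/-- The transport between two degrees, zero when they differ. -/
def cst (i j : ℤ) : E.X i →ₗ[A] E.X j :=
  if h : i = j then (h ▸ LinearMap.id) else 0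

theorem cst_self (i : ℤ) : cst E i i = LinearMap.id := by simp [cst]

theorem cst_ne {i j : ℤ} (h : i ≠ j) : cst E i j = 0 := by simp [cst, h]

theorem d_cst (i j k : ℤ) (u : E.X (i + 1)) :
    (E.d j k).hom (cst E (i + 1) j u) = cst E (j + 1) k ((E.d (i + 1) (j + 1)).hom u) := by
  rcases eq_or_ne (i + 1) j with rfl | h
  · rcases eq_or_ne (i + 1 + 1) k with rfl | h'
    · rw [cst_self, cst_self]
      rfl
    · rw [cst_ne E h', E.shape _ _ h']
      simp
  · rw [cst_ne E h, E.shape (i + 1) (j + 1) (fun hc => h (by change i + 1 + 1 = j + 1 at hc; omega))]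
    simp

variable (x : A)

/-- The terms of the cone. -/
abbrev coneX (i : ℤ) : ModuleCat.{u} A := ModuleCat.of A (E.X (i + 1) × E.X i)

/-- The differential of the cone. -/
def coneD (i j : ℤ) : E.X (i + 1) × E.X i →ₗ[A] E.X (j + 1) × E.X j :=
  ((-(E.d (i + 1) (j + 1)).hom) ∘ₗ LinearMap.fst A _ _).prod
    ((x • cst E (i + 1) j) ∘ₗ LinearMap.fst A _ _ + (E.d i j).hom ∘ₗ LinearMap.snd A _ _)

theorem coneD_apply (i j : ℤ) (u : E.X (i + 1)) (v : E.X i) :
    coneD E x i j (u, v) =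
      (-(E.d (i + 1) (j + 1)).hom u, x • cst E (i + 1) j u + (E.d i j).hom v) := rfl

theorem coneD_comp (i j k : ℤ) (p : E.X (i + 1) × E.X i) : coneD E x j k (coneD E x i j p) = 0 := by
  obtain ⟨u, v⟩ := p
  have h : ∀ (a b c : ℤ) (w : E.X a), (E.d b c).hom ((E.d a b).hom w) = 0 := fun a b c w => by
    rw [← LinearMap.comp_apply, ← ModuleCat.hom_comp, HomologicalComplex.d_comp_d]
    rfl
  rw [coneD_apply, coneD_apply]
  refine Prod.ext ?_ ?_
  · simp [h]
  · simp only [map_add, map_neg, map_smul, h, add_zero, d_cst, Prod.snd_zero, smul_neg]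
    exact neg_add_cancel _

/-- The cone of multiplication by `x`. -/
def cone : CochainComplex (ModuleCat.{u} A) ℤ where
  X := coneX E
  d i j := ModuleCat.ofHom (coneD E x i j)
  shape i j h := ModuleCat.hom_ext (LinearMap.ext fun (p : E.X (i + 1) × E.X i) => by
    show coneD E x i j p = 0
    obtain ⟨u, v⟩ := p
    change ¬ i + 1 = j at h
    rw [coneD_apply, E.shape (i + 1) (j + 1) (fun hc => h (by change i + 1 + 1 = j + 1 at hc; omega)),
      E.shape i j h, cst_ne E h]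
    simp)
  d_comp_d' i j k _ _ := ModuleCat.hom_ext (LinearMap.ext fun p => coneD_comp E x i j k p)

theorem cone_d_apply (i j : ℤ) (u : E.X (i + 1)) (v : E.X i) :
    ((cone E x).d i j).hom (u, v) =
      ((-(E.d (i + 1) (j + 1)).hom u, x • cst E (i + 1) j u + (E.d i j).hom v) :
        E.X (j + 1) × E.X j) := rfl

theorem Kill.exists_of_eq {i k : ℤ} {a : A} (h : Kill T E i a) (hk : k + 1 = i) (z : E.X i)
    (hz : (E.d i (i + 1)).hom z = 0) (hzT : z ∈ gam T (E.X i)) :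
    ∃ w ∈ gam T (E.X k), (E.d k i).hom w = a • z := by
  obtain rfl : k = i - 1 := by omega
  obtain ⟨w, hw, hwz⟩ := h ⟨z, hz⟩ ((mem_gam_cyc T E).2 hzT)
  exact ⟨w, hw, congrArg Subtype.val hwz⟩

variable {E x}

theorem fst_mem_gam {i : ℤ} {p : E.X (i + 1) × E.X i} (hp : p ∈ gam T (E.X (i + 1) × E.X i)) :
    p.1 ∈ gam T (E.X (i + 1)) :=
  map_mem_gam (LinearMap.fst A (E.X (i + 1)) (E.X i)) hp

theorem snd_mem_gam {i : ℤ} {p : E.X (i + 1) × E.X i} (hp : p ∈ gam T (E.X (i + 1) × E.X i)) :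
    p.2 ∈ gam T (E.X i) :=
  map_mem_gam (LinearMap.snd A (E.X (i + 1)) (E.X i)) hp

theorem pair_mem_gam {i : ℤ} {u : E.X (i + 1)} {v : E.X i} (hu : u ∈ gam T (E.X (i + 1)))
    (hv : v ∈ gam T (E.X i)) : (u, v) ∈ gam T (E.X (i + 1) × E.X i) := by
  have := add_mem (map_mem_gam (LinearMap.inl A (E.X (i + 1)) (E.X i)) hu)
    (map_mem_gam (LinearMap.inr A (E.X (i + 1)) (E.X i)) hv)
  simpa using this

/-- Products of killers kill the cohomology of the cone. -/
theorem kill_cone {i : ℤ} {a b : A} (ha : Kill T E i a) (hb : Kill T E (i + 1) b) :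
    Kill T (cone E x) i (a * b) := by
  intro z hz
  obtain ⟨⟨u, v⟩, hc⟩ := z
  have hzT : ((u, v) : E.X (i + 1) × E.X i) ∈ gam T (E.X (i + 1) × E.X i) :=
    (mem_gam_cyc T (cone E x)).1 hz
  have hu : u ∈ gam T (E.X (i + 1)) := fst_mem_gam T hzT
  have hv : v ∈ gam T (E.X i) := snd_mem_gam T hzT
  have hc' : ((-(E.d (i + 1) (i + 1 + 1)).hom u, x • cst E (i + 1) (i + 1) u + (E.d i (i + 1)).hom v) :
      E.X (i + 1 + 1) × E.X (i + 1)) = 0 := hc
  obtain ⟨hc1, hc2⟩ := Prod.ext_iff.1 hc'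
  change -(E.d (i + 1) (i + 1 + 1)).hom u = 0 at hc1
  change x • cst E (i + 1) (i + 1) u + (E.d i (i + 1)).hom v = 0 at hc2
  rw [cst_self, LinearMap.id_apply] at hc2
  obtain ⟨w, hw, hwu⟩ := hb.exists_of_eq T E (k := i - 1 + 1) (by omega) u (neg_eq_zero.1 hc1) hu
  have hshift : (E.d i (i + 1)).hom (cst E (i - 1 + 1) i w) = b • u := by
    rw [d_cst, cst_self]
    exact hwu
  let v' := b • v + x • cst E (i - 1 + 1) i w
  have hv'c : (E.d i (i + 1)).hom v' = 0 := by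
    rw [map_add, map_smul, map_smul, hshift, smul_comm x b]
    refine (smul_add b _ _).symm.trans ?_
    refine (congrArg (b • ·) ((_root_.add_comm _ _).trans hc2)).trans ?_
    exact smul_zero b
  have hv'T : v' ∈ gam T (E.X i) :=
    add_mem (Submodule.smul_mem _ b hv) (Submodule.smul_mem _ x (map_mem_gam _ hw))
  obtain ⟨w₂, hw₂, hw₂v⟩ := ha ⟨v', hv'c⟩ ((mem_gam_cyc T E).2 hv'T)
  have hw₂v' : (E.d (i - 1) i).hom w₂ = a • v' := congrArg Subtype.val hw₂v
  refine ⟨((-(a • w), w₂) : E.X (i - 1 + 1) × E.X (i - 1)),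
    pair_mem_gam T (neg_mem (Submodule.smul_mem _ a hw)) hw₂, Subtype.ext ?_⟩
  show coneD E x (i - 1) i (-(a • w), w₂) = (a * b) • ((u, v) : E.X (i + 1) × E.X i)
  rw [coneD_apply, hw₂v', Prod.smul_mk, map_neg, map_smul, hwu, neg_neg, mul_smul, map_neg, map_smul]
  refine Prod.ext rfl ?_
  show x • -(a • cst E (i - 1 + 1) i w) + a • (b • v + x • cst E (i - 1 + 1) i w) = (a * b) • v
  rw [mul_smul, smul_add, smul_neg, smul_comm x a]
  abel

/-- The connecting map on cycles. -/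
def connCyc (n : ℤ) : gam T (cyc (cone E x) (n - 1)) →ₗ[A] gam T (cyc E n) :=
  ((cst E (n - 1 + 1) n ∘ₗ LinearMap.fst A (E.X (n - 1 + 1)) (E.X (n - 1)) ∘ₗ
      (cyc (cone E x) (n - 1)).subtype).codRestrict (cyc E n) fun z => by
    obtain ⟨⟨u, v⟩, hc⟩ := z
    show (E.d n (n + 1)).hom (cst E (n - 1 + 1) n u) = 0
    rw [d_cst, cst_self, LinearMap.id_apply]
    have h1 : -(E.d (n - 1 + 1) (n - 1 + 1 + 1)).hom u = 0 := congrArg Prod.fst hc
    rw [neg_eq_zero] at h1
    revert h1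
    generalize hk : n - 1 + 1 + 1 = k
    obtain rfl : k = n + 1 := by omega
    exact id).restrict fun _ h => map_mem_gam _ h

theorem connCyc_coe (n : ℤ) (z : gam T (cyc (cone E x) (n - 1))) :
    ((connCyc T n z).1 : E.X n) =
      cst E (n - 1 + 1) n ((z.1.1 : E.X (n - 1 + 1) × E.X (n - 1))).1 := rfl

/-- Finiteness of the cohomology with support of `E` from that of the cone. -/
theorem finite_of_cone {n : ℤ} (hx : Kill T E n x) [Module.Finite A (HT T (cone E x) (n - 1))] :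
    Module.Finite A (HT T E n) := by
  let f : gam T (cyc (cone E x) (n - 1)) →ₗ[A] HT T E n :=
    (LinearMap.range (gamPi T E n)).mkQ ∘ₗ connCyc T n
  have hle : LinearMap.range (gamPi T (cone E x) (n - 1)) ≤ LinearMap.ker f := by
    rintro _ ⟨⟨⟨p, q⟩, hpq⟩, rfl⟩
    refine (Submodule.Quotient.mk_eq_zero _).2 ⟨⟨-(cst E (n - 1 - 1 + 1) (n - 1) p),
      neg_mem (map_mem_gam (cst E (n - 1 - 1 + 1) (n - 1)) (fst_mem_gam T hpq))⟩,
      Subtype.ext (Subtype.ext ?_)⟩
    show (E.d (n - 1) n).hom (-(cst E (n - 1 - 1 + 1) (n - 1) p)) =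
      cst E (n - 1 + 1) n (-(E.d (n - 1 - 1 + 1) (n - 1 + 1)).hom p)
    rw [map_neg, map_neg, d_cst]
  refine Module.Finite.of_surjective ((LinearMap.range (gamPi T (cone E x) (n - 1))).liftQ f hle) ?_
  intro y
  obtain ⟨⟨⟨z, hz⟩, hzT⟩, rfl⟩ := Submodule.Quotient.mk_surjective _ y
  obtain ⟨w, hw, hwz⟩ := hx ⟨z, hz⟩ hzT
  have hwz' : (E.d (n - 1) n).hom w = x • z := congrArg Subtype.val hwz
  have hz' : z ∈ gam T (E.X n) := (mem_gam_cyc T E).1 hzT
  have hgen : ∀ k : ℤ, k = n → (E.d k (k + 1)).hom (cst E n k z) = 0 ∧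
      ∀ y : E.X n, y = z → cst E k n (cst E n k y) = z := by
    rintro k rfl
    rw [cst_self]
    exact ⟨hz, fun y hy => hy⟩
  obtain ⟨g1, g2⟩ := hgen (n - 1 + 1) (by omega)
  have g3 : ∀ k : ℤ, k = n → cst E k k (cst E n k z) = cst E n k z ∧
      (E.d (n - 1) k).hom w = x • cst E n k z := by
    rintro k rfl
    simp only [cst_self, LinearMap.id_apply]
    exact ⟨trivial, hwz'⟩
  obtain ⟨g3, g4⟩ := g3 (n - 1 + 1) (by omega)
  let p : E.X (n - 1 + 1) × E.X (n - 1) := (cst E n (n - 1 + 1) z, -w)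
  have hp : p ∈ cyc (cone E x) (n - 1) := by
    show coneD E x (n - 1) (n - 1 + 1) (cst E n (n - 1 + 1) z, -w) = 0
    rw [coneD_apply, g1, g3, map_neg, g4]
    simp
  have hpT : (⟨p, hp⟩ : cyc (cone E x) (n - 1)) ∈ gam T (cyc (cone E x) (n - 1)) :=
    (mem_gam_cyc T (cone E x)).2 (pair_mem_gam T (map_mem_gam _ hz') (neg_mem hw))
  refine ⟨Submodule.Quotient.mk ⟨⟨p, hp⟩, hpT⟩, ?_⟩
  show f ⟨⟨p, hp⟩, hpT⟩ = _
  refine congrArg Submodule.Quotient.mk (Subtype.ext (Subtype.ext ?_))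
  rw [connCyc_coe]
  exact g2 z rfl

end LcCxLib

end
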