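import Groth.Agent.DualCxLib.LocDuality
import Groth.Agent.DRingLib.Devissage
import Groth.Agent.LcFinLib.Gamma

/-!
The trace pairing between maps from the `A/m^n` and maps to a normalized dualizing complex: the
property of being perfect, and its five lemma.
-/

set_option autoImplicit false
set_option linter.style.haveILetI false
set_option linter.unusedSectionVars false

universe u

open CategoryTheory CategoryTheory.Limits
open CategoryTheory.Pretriangulated (Triangle)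
open Groth.Agent
open DTenLib.Point (hH sg)
open Groth.Agent.DualCxLib

attribute [local instance] HasDerivedCategory.standard

noncomputable section

namespace LcCxLib

variable {A : Type u} [CommRing A] [IsLocalRing A]

/-- `A/m^n` in the derived category. -/
abbrev qsg (A : Type u) [CommRing A] [IsLocalRing A] (n : ℕ) : Dual.D A :=
  (DerivedCategory.singleFunctor (ModuleCat.{u} A) 0).obj (qPow A n)

/-- The transition maps. -/
abbrev qS {n k : ℕ} (h : n ≤ k) : qsg A k ⟶ qsg A n :=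
  (DerivedCategory.singleFunctor (ModuleCat.{u} A) 0).map (qFac (A := A) h)

theorem qFac_trans {n k l : ℕ} (h : n ≤ k) (h' : k ≤ l) :
    qFac (A := A) h' ≫ qFac h = qFac (h.trans h') :=
  ModuleCat.hom_ext (Submodule.linearMap_qext _ (LinearMap.ext_ring rfl))

theorem qS_trans {n k l : ℕ} (h : n ≤ k) (h' : k ≤ l) :
    qS (A := A) h' ≫ qS h = qS (h.trans h') := by
  rw [← Functor.map_comp, qFac_trans]

/-- A map from some `A/m^n` is zero in the limit. -/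
def Dies {X : Dual.D A} {n : ℕ} (g : qsg A n ⟶ X) : Prop :=
  ∃ (k : ℕ) (h : n ≤ k), qS h ≫ g = 0

theorem Dies.of_qS {X : Dual.D A} {n k : ℕ} (h : n ≤ k) {g : qsg A n ⟶ X} (hg : Dies (qS h ≫ g)) :
    Dies g := by
  obtain ⟨l, hl, hgl⟩ := hg
  exact ⟨l, h.trans hl, by rw [← qS_trans h hl, Category.assoc]; exact hgl⟩

theorem Dies.comp {X Y : Dual.D A} {n : ℕ} {g : qsg A n ⟶ X} (hg : Dies g) (v : X ⟶ Y) :
    Dies (g ≫ v) := by
  obtain ⟨k, h, hgk⟩ := hg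
  exact ⟨k, h, by rw [← Category.assoc, hgk, zero_comp]⟩

variable [IsNoetherianRing A] {ω : Dual.D A} {E : Type u} [AddCommGroup E] [Module A E]
  (T : Traces ω E)

/-- The functional of a map from `A/m^n`. -/
def phi {X : Dual.D A} (n : ℕ) (g : qsg A n ⟶ X) : (X ⟶ ω⟦(0 : ℤ)⟧) →ₗ[A] E :=
  T.ι n ∘ₗ pre g (ω⟦(0 : ℤ)⟧)

theorem phi_apply {X : Dual.D A} (n : ℕ) (g : qsg A n ⟶ X) (f : X ⟶ ω⟦(0 : ℤ)⟧) :
    phi T n g f = T.ι n (g ≫ f) := rfl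

theorem phi_qS {X : Dual.D A} {n k : ℕ} (h : n ≤ k) (g : qsg A n ⟶ X) :
    phi T k (qS h ≫ g) = phi T n g := LinearMap.ext fun f => by
  rw [phi_apply, phi_apply, Category.assoc]
  exact T.compat h (g ≫ f)

theorem phi_comp {X Y : Dual.D A} (n : ℕ) (g : qsg A n ⟶ X) (v : X ⟶ Y) :
    phi T n (g ≫ v) = phi T n g ∘ₗ pre v (ω⟦(0 : ℤ)⟧) := LinearMap.ext fun f => by
  show T.ι n ((g ≫ v) ≫ f) = T.ι n (g ≫ v ≫ f)
  rw [Category.assoc]

theorem phi_add {X : Dual.D A} (n : ℕ) (g g' : qsg A n ⟶ X) :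
    phi T n (g + g') = phi T n g + phi T n g' := LinearMap.ext fun f => by
  show T.ι n ((g + g') ≫ f) = T.ι n (g ≫ f) + T.ι n (g' ≫ f)
  rw [Preadditive.add_comp, map_add]

theorem phi_sub {X : Dual.D A} (n : ℕ) (g g' : qsg A n ⟶ X) :
    phi T n (g - g') = phi T n g - phi T n g' := LinearMap.ext fun f => by
  show T.ι n ((g - g') ≫ f) = T.ι n (g ≫ f) - T.ι n (g' ≫ f)
  rw [Preadditive.sub_comp, map_sub]

theorem comp_eq_zero_of_phi {X : Dual.D A} {n : ℕ} {g : qsg A n ⟶ X} (h : phi T n g = 0)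
    (f : X ⟶ ω⟦(0 : ℤ)⟧) : g ≫ f = 0 :=
  T.injective n ((LinearMap.congr_fun h f).trans (map_zero _).symm)

/-- Faithfulness of the pairing. -/
def DInj (_T : Traces ω E) (X : Dual.D A) : Prop :=
  ∀ (n : ℕ) (g : qsg A n ⟶ X), phi _T n g = 0 → Dies g

/-- Fullness of the pairing. -/
def DSurj (_T : Traces ω E) (X : Dual.D A) : Prop :=
  ∀ χ : (X ⟶ ω⟦(0 : ℤ)⟧) →ₗ[A] E, ∃ (n : ℕ) (g : qsg A n ⟶ X), phi _T n g = χ

/-- The pairing is perfect. -/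
def DPerf (_T : Traces ω E) (X : Dual.D A) : Prop := DInj _T X ∧ DSurj _T X

variable {T}

theorem DInj.of_iso {X Y : Dual.D A} (e : X ≅ Y) (h : DInj T X) : DInj T Y := fun n g hg => by
  have := (h n (g ≫ e.inv) (by rw [phi_comp, hg, LinearMap.zero_comp])).comp e.hom
  rwa [Category.assoc, Iso.inv_hom_id, Category.comp_id] at this

theorem DSurj.of_iso {X Y : Dual.D A} (e : X ≅ Y) (h : DSurj T X) : DSurj T Y := fun χ => by
  obtain ⟨n, g, hg⟩ := h (χ ∘ₗ pre e.inv (ω⟦(0 : ℤ)⟧))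
  refine ⟨n, g ≫ e.hom, LinearMap.ext fun f => ?_⟩
  rw [phi_comp, hg]
  show χ (e.inv ≫ e.hom ≫ f) = χ f
  rw [Iso.inv_hom_id_assoc]

theorem DPerf.of_iso {X Y : Dual.D A} (e : X ≅ Y) (h : DPerf T X) : DPerf T Y :=
  ⟨h.1.of_iso e, h.2.of_iso e⟩

/-- Both sides zero. -/
theorem dPerf_of_vanishing {X : Dual.D A} (h₁ : ∀ (n : ℕ) (g : qsg A n ⟶ X), Dies g)
    (h₂ : Subsingleton (X ⟶ ω⟦(0 : ℤ)⟧)) : DPerf T X :=
  ⟨fun n g _ => h₁ n g, fun χ => ⟨0, 0, LinearMap.ext fun f => by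
    rw [h₂.elim f 0, map_zero, map_zero]⟩⟩

theorem dPerf_of_isZero {X : Dual.D A} (h : IsZero X) : DPerf T X :=
  dPerf_of_vanishing (fun n g => ⟨n, le_rfl, by rw [h.eq_of_tgt g 0, comp_zero]⟩)
    ⟨fun f f' => h.eq_of_src f f'⟩

section FiveLemma

variable (hE : Module.Baer A E) (D : Triangle (Dual.D A)) (hD : D ∈ distTriang (Dual.D A))
include hE hD

theorem dSurj_obj₂ (h₃ : DSurj T D.obj₃) (h₁' : DInj T (D.obj₁⟦(1 : ℤ)⟧)) (h₁ : DSurj T D.obj₁) :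
    DSurj T D.obj₂ := by
  intro χ
  obtain ⟨n, g₃, hg₃⟩ := h₃ (χ ∘ₗ pre D.mor₂ (ω⟦(0 : ℤ)⟧))
  obtain ⟨k, hk, hgk⟩ := h₁' n (g₃ ≫ D.mor₃) (LinearMap.ext fun f => by
    rw [phi_comp, hg₃]
    show χ (D.mor₂ ≫ D.mor₃ ≫ f) = 0
    rw [← Category.assoc, Pretriangulated.comp_distTriang_mor_zero₂₃ _ hD, zero_comp, map_zero])
  obtain ⟨g₂, hg₂⟩ := Triangle.coyoneda_exact₃ _ hD (qS hk ≫ g₃) (by rw [Category.assoc]; exact hgk)
  have hvan : (χ - phi T k g₂) ∘ₗ pre D.mor₂ (ω⟦(0 : ℤ)⟧) = 0 := by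
    rw [LinearMap.sub_comp, ← phi_comp, ← hg₂, phi_qS, hg₃, sub_self]
  obtain ⟨ψ, hψ⟩ := exists_comp_of_exact hE (pre D.mor₂ (ω⟦(0 : ℤ)⟧)) (pre D.mor₁ (ω⟦(0 : ℤ)⟧))
    (fun q hq => (Triangle.yoneda_exact₂ _ hD q hq).imp fun _ h => h.symm) _ hvan
  obtain ⟨l, g₁, hg₁⟩ := h₁ ψ
  refine ⟨max k l, qS (le_max_left k l) ≫ g₂ + qS (le_max_right k l) ≫ g₁ ≫ D.mor₁, ?_⟩
  rw [phi_add, phi_qS, phi_qS, phi_comp, hg₁, hψ]
  abel

theorem dInj_obj₂ (h₃ : DInj T D.obj₃) (h₃' : DSurj T (D.obj₃⟦(-1 : ℤ)⟧)) (h₁ : DInj T D.obj₁) :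
    DInj T D.obj₂ := by
  intro n g hg
  obtain ⟨k, hk, hgk⟩ := h₃ n (g ≫ D.mor₂) (by rw [phi_comp, hg, LinearMap.zero_comp])
  obtain ⟨g₁, hg₁⟩ := Triangle.coyoneda_exact₂ _ hD (qS hk ≫ g) (by rw [Category.assoc]; exact hgk)
  have hD' := Pretriangulated.inv_rot_of_distTriang _ hD
  let w : D.obj₃⟦(-1 : ℤ)⟧ ⟶ D.obj₁ := D.invRotate.mor₁
  have hex : ∀ q : D.obj₁ ⟶ ω⟦(0 : ℤ)⟧, pre w (ω⟦(0 : ℤ)⟧) q = 0 →
      ∃ p, pre D.mor₁ (ω⟦(0 : ℤ)⟧) p = q := fun q hq =>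
    (Triangle.yoneda_exact₂ _ hD' q hq).imp fun _ h => h.symm
  have hvan : phi T k g₁ ∘ₗ pre D.mor₁ (ω⟦(0 : ℤ)⟧) = 0 := by
    rw [← phi_comp, ← hg₁, phi_qS, hg]
  obtain ⟨ψ, hψ⟩ := exists_comp_of_exact hE (pre D.mor₁ (ω⟦(0 : ℤ)⟧)) (pre w (ω⟦(0 : ℤ)⟧)) hex _ hvan
  obtain ⟨l, g₃, hg₃⟩ := h₃' ψ
  have hz : w ≫ D.mor₁ = 0 := Pretriangulated.comp_distTriang_mor_zero₁₂ _ hD'
  have hd := h₁ (max k l) (qS (le_max_left k l) ≫ g₁ - qS (le_max_right k l) ≫ g₃ ≫ w) (by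
    rw [phi_sub, phi_qS, phi_qS, phi_comp, hg₃, hψ, sub_self])
  have hd' := hd.comp D.mor₁
  rw [Preadditive.sub_comp, Category.assoc, Category.assoc, Category.assoc, hz, comp_zero, comp_zero,
    sub_zero, ← hg₁, ← Category.assoc, qS_trans] at hd'
  exact hd'.of_qS

end FiveLemma

end LcCxLib

end
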