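import Groth.Agent.LcCxLib.DualityPerf
import Groth.Agent.DualCxLib.LocDualApps
import Groth.Prelude.Def_DualLC

/-!
Local duality for bounded below complexes with finite cohomology, in terms of annihilators.
-/

set_option autoImplicit false
set_option linter.style.haveILetI false
set_option linter.unusedSectionVars false
set_option maxHeartbeats 400000

universe u

open CategoryTheory CategoryTheory.Limits Opposite
open CategoryTheory.Pretriangulated (Triangle)
open Groth.Agent
open DTenLib.Point (hH sg)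
open Groth.Agent.DualCxLib

attribute [local instance] HasDerivedCategory.standard

noncomputable section

namespace LcCxLib

variable {A : Type u} [CommRing A] [IsLocalRing A] [IsNoetherianRing A] {ω : Dual.D A}
  {E : Type u} [AddCommGroup E] [Module A E] {T : Traces ω E}
  (hω : Dual.IsDualizing A ω) (hn : Dual.IsNormalized A ω)
  {f : IsLocalRing.ResidueField A →ₗ[A] E} (hf : InjHull.IsInjectiveHull f)
include hω hn hf

theorem dPerf_of_isGE {X : Dual.D A} (j : ℤ) (hj : 0 < j) (hX : X.IsGE j) : DPerf T X := by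
  haveI := hX
  refine dPerf_of_vanishing (fun n g => ⟨n, le_rfl, ?_⟩) (subsingleton_of_forall_eq 0 fun g => ?_)
  · rw [DerivedCategory.TStructure.t.zero g 0 j hj, comp_zero]
  · obtain ⟨a, b, hab⟩ := hω.finite_injective_dimension
    have hamp : DRing.HasInjAmplitudeIn A a 0 ω := hasInjAmplitudeIn_of_ext fun I i hi =>
      hi.elim (fun h => hab (A ⧸ I) i (Or.inl h)) fun h => subsingleton_ext_of_pos hω hn (A ⧸ I) i h
    let e := (shiftFunctorZero (Dual.D A) ℤ).app ω
    exact (cancel_mono e.hom).1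
      ((DTenLib.hom_eq_zero_of_injAmplitude hamp hX hj (g ≫ e.hom)).trans zero_comp.symm)

theorem devissable_dPerf :
    DRingLib.Devissable (fun X : Dual.D A => ∀ j : ℤ, DPerf T (X⟦j⟧)) where
  iso e h j := (h j).of_iso ((shiftFunctor (Dual.D A) j).mapIso e)
  zero h j := dPerf_of_isZero ((shiftFunctor (Dual.D A) j).map_isZero h)
  ext D₀ hD₀ h₁ h₃ j := by
    let D := (Triangle.shiftFunctor (Dual.D A) j).obj D₀
    have hD : D ∈ distTriang (Dual.D A) := Triangle.shift_distinguished _ hD₀ _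
    have h₁' : DPerf T (D.obj₁⟦(1 : ℤ)⟧) :=
      (h₁ (j + 1)).of_iso ((shiftFunctorAdd' (Dual.D A) j 1 (j + 1) rfl).app D₀.obj₁)
    have h₃' : DPerf T (D.obj₃⟦(-1 : ℤ)⟧) :=
      (h₃ (j + -1)).of_iso ((shiftFunctorAdd' (Dual.D A) j (-1) (j + -1) rfl).app D₀.obj₃)
    have hE : Module.Baer A E := Module.Baer.of_injective hf.isInjective
    exact ⟨dInj_obj₂ hE D hD (h₃ j).1 h₃'.2 (h₁ j).1, dSurj_obj₂ hE D hD (h₃ j).2 h₁'.1 (h₁ j).2⟩

theorem dPerf_of_bounded (K : Dual.D A) (c : ℤ) (k : ℕ)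
    (hK : ∀ i, (i < c ∨ c + k ≤ i) → IsZero ((hH A i).obj K))
    (hKf : ∀ i, Module.Finite A ((hH A i).obj K)) (j : ℤ) : DPerf T (K⟦j⟧) :=
  (devissable_dPerf hω hn hf (T := T)).of_homology c k K hK (fun i j => by
    haveI := hKf i
    exact (dPerf_shift_module hω hn hf (T := T) (-i + j) _).of_iso
      ((shiftFunctorAdd' (Dual.D A) (-i) j (-i + j) rfl).app _ ≪≫
        (shiftFunctor (Dual.D A) j).mapIso (DRingLib.singleShiftIso ((hH A i).obj K) i))) j

/-- The pairing is perfect on bounded below complexes with finite cohomology. -/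
theorem dPerf_shift (K : Dual.D A) (a : ℤ) (hKa : ∀ i, i < a → Subsingleton (Dual.HD A K i))
    (hK : ∀ i, Module.Finite A (Dual.HD A K i)) (j : ℤ) : DPerf T (K⟦j⟧) := by
  let b : ℤ := max (j + 1) a
  obtain ⟨X, Y, hX, hY, u, v, d, hT⟩ :=
    DerivedCategory.TStructure.t.exists_triangle K (b - 1) b (by omega)
  haveI : X.IsLE (b - 1) := ⟨hX⟩
  haveI : Y.IsGE b := ⟨hY⟩
  let D₀ : Triangle (Dual.D A) := Triangle.mk u v d
  have hY0 : ∀ i, i < b → IsZero ((hH A i).obj Y) := fun i hi => DerivedCategory.isZero_of_isGE Y b i hi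
  have hu : ∀ i, i < b → IsIso ((hH A i).map u) := fun i hi => by
    have := (DerivedCategory.HomologySequence.mono_homologyMap_mor₁_iff D₀ hT (i - 1) i
      (by omega)).mpr ((hY0 (i - 1) (by omega)).eq_of_src _ _)
    have := (DerivedCategory.HomologySequence.epi_homologyMap_mor₁_iff D₀ hT i).mpr
      ((hY0 i hi).eq_of_tgt _ _)
    exact isIso_of_mono_of_epi ((hH A i).map D₀.mor₁)
  have hXz : ∀ i, b ≤ i → IsZero ((hH A i).obj X) := fun i hi =>
    DerivedCategory.isZero_of_isLE X (b - 1) i (by omega)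
  have hXP : ∀ i, DPerf T (X⟦i⟧) := dPerf_of_bounded hω hn hf X a (b - a).toNat
    (fun i hi => by
      by_cases hib : b ≤ i
      · exact hXz i hib
      · haveI := hu i (by omega)
        haveI := hKa i (by omega)
        exact (ModuleCat.isZero_of_subsingleton _).of_iso (asIso ((hH A i).map u)))
    (fun i => by
      by_cases hib : b ≤ i
      · haveI := ModuleCat.subsingleton_of_isZero (hXz i hib)
        infer_instance
      · haveI := hu i (by omega)
        haveI := hK i
        exact Module.Finite.equiv (asIso ((hH A i).map u)).toLinearEquiv.symm)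
  let D := (Triangle.shiftFunctor (Dual.D A) j).obj D₀
  have hD : D ∈ distTriang (Dual.D A) := Triangle.shift_distinguished _ hT _
  haveI := DerivedCategory.TStructure.t.isGE_shift Y b j (b - j) (by omega)
  have h₃ : DPerf T (Y⟦j⟧) := dPerf_of_isGE hω hn hf (b - j) (by omega) inferInstance
  have h₃' : DPerf T ((Y⟦j⟧)⟦(-1 : ℤ)⟧) := by
    haveI := DerivedCategory.TStructure.t.isGE_shift (Y⟦j⟧) (b - j) (-1) (b - j + 1) (by omega)
    exact dPerf_of_isGE hω hn hf (b - j + 1) (by omega) inferInstance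
  have h₁' : DPerf T (D.obj₁⟦(1 : ℤ)⟧) :=
    (hXP (j + 1)).of_iso ((shiftFunctorAdd' (Dual.D A) j 1 (j + 1) rfl).app X)
  have hE : Module.Baer A E := Module.Baer.of_injective hf.isInjective
  exact ⟨dInj_obj₂ hE D hD h₃.1 h₃'.2 (hXP j).1, dSurj_obj₂ hE D hD h₃.2 h₁'.1 (hXP j).2⟩

theorem exists_functional_ne_zero {V : Type (u + 1)} [AddCommGroup V] [Module A V] {v : V} (hv : v ≠ 0) :
    ∃ χ : V →ₗ[A] E, χ v ≠ 0 := by
  let I := LinearMap.ker (LinearMap.toSpanSingleton A V v)
  have hle : I ≤ IsLocalRing.maximalIdeal A := IsLocalRing.le_maximalIdeal fun h => hv (by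
    have h1 : (1 : A) ∈ I := h ▸ Submodule.mem_top
    simpa using LinearMap.mem_ker.1 h1)
  let r : (A ⧸ I) →ₗ[A] E := f ∘ₗ I.liftQ (Algebra.linearMap A (IsLocalRing.ResidueField A)) fun x hx =>
    (IsLocalRing.residue_eq_zero_iff x).2 (hle hx)
  obtain ⟨χ, hχ⟩ := (Module.Baer.of_injective hf.isInjective).extension_property
    (I.liftQ (LinearMap.toSpanSingleton A V v) le_rfl)
    (LinearMap.ker_eq_bot.1 (Submodule.ker_liftQ_eq_bot _ _ _ le_rfl)) r
  refine ⟨χ, fun h0 => ?_⟩
  have h1 : χ ((1 : A) • v) = f (algebraMap A (IsLocalRing.ResidueField A) 1) :=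
    LinearMap.congr_fun hχ (Submodule.Quotient.mk 1)
  rw [one_smul, h0, map_one, eq_comm] at h1
  exact one_ne_zero (hf.injective (h1.trans (map_zero f).symm))

theorem forall_dies_iff {X : Dual.D A} (hX : DPerf T X) (c : A) :
    (∀ (n : ℕ) (g : qsg A n ⟶ X), Dies (c • g)) ↔ ∀ q : X ⟶ ω⟦(0 : ℤ)⟧, c • q = 0 := by
  refine ⟨fun h q => by_contra fun hq => ?_, fun h n g => hX.1 n (c • g) (LinearMap.ext fun q => ?_)⟩
  · obtain ⟨χ, hχ⟩ := exists_functional_ne_zero hω hn hf hq
    obtain ⟨n, g, rfl⟩ := hX.2 χ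
    obtain ⟨k, hk, hgk⟩ := h n g
    refine hχ ?_
    rw [phi_apply, Linear.comp_smul, ← Linear.smul_comp, ← phi_apply, ← phi_qS T hk, hgk, phi_apply,
      zero_comp, map_zero]
  · rw [phi_apply, Linear.smul_comp, ← Linear.comp_smul, h q, comp_zero, map_zero, LinearMap.zero_apply]

omit hω hn hf

/-- Killing local cohomology, on representatives. -/
theorem forall_HDI_smul_iff_dies (K : Dual.D A) (i : ℤ) (c : A) :
    (∀ x : Dual2.HDI A (IsLocalRing.maximalIdeal A) K i, c • x = 0) ↔
      ∀ (n : ℕ) (g : qsg A n ⟶ K⟦i⟧), Dies (c • g) := by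
  haveI := preservesNat (A := A)
  let F : ℕᵒᵖᵒᵖ ⥤ ModuleCat.{u + 1} A :=
    (localCohomology.ringModIdeals (localCohomology.idealPowersDiagram (IsLocalRing.maximalIdeal A)) ⋙
      DerivedCategory.singleFunctor (ModuleCat.{u} A) 0).op ⋙ (linearYoneda A (Dual.D A)).obj (K⟦i⟧)
  constructor
  · intro h n g
    have h0 : colimit.ι F (op (op n)) (c • (g : qsg A n ⟶ K⟦i⟧)) = colimit.ι F (op (op n)) 0 :=
      (map_smul (colimit.ι F (op (op n))).hom c g).trans ((h _).trans (map_zero (colimit.ι F _).hom).symm)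
    obtain ⟨k, u, v, huv⟩ := Concrete.colimit_exists_of_rep_eq F _ _ h0
    refine ⟨k.unop.unop, leOfHom u.unop.unop, ?_⟩
    have h2 : (F.map v).hom (0 : qsg A n ⟶ K⟦i⟧) = 0 := map_zero _
    exact huv.trans h2
  · intro h x
    obtain ⟨n, g, rfl⟩ := Concrete.colimit_exists_rep F x
    obtain ⟨k, hk, hgk⟩ := h n.unop.unop g
    let u : n ⟶ op (op k) := (homOfLE hk).op.op
    have h1 : (F.map u).hom (c • g) = 0 := hgk
    show c • colimit.ι F n g = 0
    exact (map_smul (colimit.ι F n).hom c g).symm.trans ((ConcreteCategory.congr_hom (colimit.w F u) (c • g)).symm.trans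
      ((congrArg (colimit.ι F (op (op k))) h1).trans (map_zero (colimit.ι F _).hom)))

/-- Local duality for complexes, in terms of annihilators. -/
theorem forall_HDI_smul_iff (hω : Dual.IsDualizing A ω) (hn : Dual.IsNormalized A ω) (K : Dual.D A) (a : ℤ)
    (hKa : ∀ i, i < a → Subsingleton (Dual.HD A K i)) (hK : ∀ i, Module.Finite A (Dual.HD A K i))
    (i : ℤ) (c : A) :
    (∀ x : Dual2.HDI A (IsLocalRing.maximalIdeal A) K i, c • x = 0) ↔
      ∀ q : K ⟶ ω⟦-i⟧, c • q = 0 := by
  obtain ⟨E, _, _, f, hf⟩ := InjHullLib.exists_injectiveHull (R := A) (IsLocalRing.ResidueField A)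
  obtain ⟨T⟩ := nonempty_traces hω hn hf
  rw [forall_HDI_smul_iff_dies, forall_dies_iff hω hn hf (dPerf_shift hω hn hf (T := T) K a hKa hK i)]
  let e := shiftHomL ω K i
  refine ⟨fun h q => ?_, fun h q => e.injective ((map_smul e c q).trans ((h _).trans (map_zero e).symm))⟩
  rw [← e.apply_symm_apply q, ← map_smul, h, map_zero]

/-- Local duality for complexes, vanishing. -/
theorem subsingleton_HDI_iff (hω : Dual.IsDualizing A ω) (hn : Dual.IsNormalized A ω) (K : Dual.D A) (a : ℤ)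
    (hKa : ∀ i, i < a → Subsingleton (Dual.HD A K i)) (hK : ∀ i, Module.Finite A (Dual.HD A K i))
    (i : ℤ) :
    Subsingleton (Dual2.HDI A (IsLocalRing.maximalIdeal A) K i) ↔ Subsingleton (K ⟶ ω⟦-i⟧) := by
  have h := forall_HDI_smul_iff hω hn K a hKa hK i 1
  simp only [one_smul] at h
  exact ⟨fun _ => subsingleton_of_forall_eq 0 (h.1 fun x => Subsingleton.elim _ _),
    fun _ => subsingleton_of_forall_eq 0 (h.2 fun q => Subsingleton.elim _ _)⟩

end LcCxLib

end
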