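import Groth.Agent.LcCxLib.Duality
import Groth.Agent.LocCohLib.NonVanishing

/-!
The trace pairing is perfect on all shifts of finite modules.
-/

set_option autoImplicit false
set_option linter.style.haveILetI false
set_option linter.unusedSectionVars false
set_option maxHeartbeats 400000

universe u

open CategoryTheory CategoryTheory.Limits
open CategoryTheory.Pretriangulated (Triangle)
open Groth.Agent
open DTenLib.Point (hH sg)
open Groth.Agent.DualCxLib

attribute [local instance] HasDerivedCategory.standard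

noncomputable section

namespace LcCxLib

variable {A : Type u} [CommRing A]

/-- Maps of a shift into `ω`. -/
def shiftHomL (ω : Dual.D A) (X : Dual.D A) (j : ℤ) :
    (X⟦j⟧ ⟶ ω⟦(0 : ℤ)⟧) ≃ₗ[A] (X ⟶ ω⟦-j⟧) :=
  ((precompL (eqToIso (by rw [neg_neg]) : X⟦j⟧ ≅ X⟦- -j⟧) (ω⟦(0 : ℤ)⟧)).trans
    (shiftL X (ω⟦(0 : ℤ)⟧) (-j))).trans (postcompL X (shift₂ ω 0 (-j) (-j) (zero_add _)))

theorem isGE_sg (M : ModuleCat.{u} A) : (sg M 0).IsGE 0 := by
  infer_instance

theorem hasInjAmplitude_sg (I : ModuleCat.{u} A) (hI : Module.Injective A I) :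
    DRing.HasInjAmplitudeIn A 0 0 (sg I 0) := by
  refine ⟨(HomologicalComplex.single (ModuleCat.{u} A) (ComplexShape.up ℤ) 0).obj I, fun i hi => ?_,
    fun i => ?_, ⟨((DerivedCategory.singleFunctorIsoCompQ (ModuleCat.{u} A) 0).app I).symm⟩⟩
  · exact HomologicalComplex.isZero_single_obj_X _ _ _ i (by omega)
  · by_cases h : i = 0
    · subst h
      exact Module.Injective.of_ringEquiv (RingEquiv.refl A)
        (HomologicalComplex.singleObjXSelf (ComplexShape.up ℤ) 0 I).toLinearEquiv.symm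
    · haveI := ModuleCat.subsingleton_of_isZero
        (HomologicalComplex.isZero_single_obj_X (ComplexShape.up ℤ) 0 I i h)
      exact ⟨fun X Y _ _ _ _ f hf g => ⟨0, fun x => Subsingleton.elim _ _⟩⟩

theorem hom_eq_zero_of_injective (N I : ModuleCat.{u} A) (hI : Module.Injective A I) (i : ℤ)
    (hi : 0 < i) (f : sg N 0 ⟶ (sg I 0)⟦i⟧) : f = 0 :=
  (ext_of_hasInjAmplitudeIn (hasInjAmplitude_sg I hI) N i (Or.inr hi)).elim f 0

variable [IsLocalRing A]

/-- Into a negative shift of a module there are only zero maps. -/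
theorem hom_shift_eq_zero (M : ModuleCat.{u} A) (j : ℤ) (hj : j < 0) {n : ℕ}
    (g : qsg A n ⟶ (sg M 0)⟦j⟧) : g = 0 := by
  haveI := DerivedCategory.TStructure.t.isGE_shift (sg M 0) 0 j (-j) (by omega)
  exact DerivedCategory.TStructure.t.zero g 0 (-j) (by omega)

theorem pow_smul_eq_zero {X : Dual.D A} {n : ℕ} {c : A} (hc : c ∈ IsLocalRing.maximalIdeal A ^ n)
    (g : qsg A n ⟶ X) : c • g = 0 := by
  have h : c • 𝟙 (qPow A n) = 0 := ModuleCat.hom_ext (LinearMap.ext fun z => by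
    obtain ⟨z, rfl⟩ := Submodule.Quotient.mk_surjective _ z
    exact (Submodule.Quotient.mk_eq_zero _).2 (Ideal.mul_mem_right _ _ hc))
  have h' : c • 𝟙 (qsg A n) = 0 := by
    rw [show 𝟙 (qsg A n) = (DerivedCategory.singleFunctor (ModuleCat.{u} A) 0).map (𝟙 (qPow A n)) from
      (CategoryTheory.Functor.map_id _ _).symm, ← Functor.map_smul, h, Functor.map_zero]
  calc c • g = (c • 𝟙 (qsg A n)) ≫ g := by rw [Linear.smul_comp, Category.id_comp]
    _ = 0 := by rw [h', zero_comp]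

variable [IsNoetherianRing A]

theorem baer_torsionSub {M : Type u} [AddCommGroup M] [Module A M] (hM : Module.Baer A M)
    (I : Ideal A) : Module.Baer A (DRing.torsionSub I M) :=
  Module.Baer.of_equiv (LinearEquiv.ofEq _ _ (LcFinLib.gam_zeroLocus I M))
    (LcFinLib.baer_gam hM (PrimeSpectrum.zeroLocus (I : Set A)))

theorem exists_baer_embedding (N : ModuleCat.{u} A) :
    ∃ (M : ModuleCat.{u} A) (κ : (N : Type u) →ₗ[A] M),
      Module.Baer A M ∧ Function.Injective κ := by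
  obtain ⟨⟨J, hJ, f, hf⟩⟩ := EnoughInjectives.presentation (C := ModuleCat.{u} A) N
  exact ⟨J, f.hom, Module.Baer.of_injective (Module.injective_module_of_injective_object A J (inj := hJ)),
    (ModuleCat.mono_iff_injective f).1 hf⟩

theorem Dies.of_iso {X Y : Dual.D A} (e : X ≅ Y) {n : ℕ} {g : qsg A n ⟶ X} (h : Dies (g ≫ e.hom)) :
    Dies g := by
  have h' := h.comp e.inv
  rwa [Category.assoc, Iso.hom_inv_id, Category.comp_id] at h'

theorem dies_obj₁_shift {D : Triangle (Dual.D A)} (hD : D ∈ distTriang (Dual.D A)) {n : ℕ}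
    (h₂ : ∀ g : qsg A n ⟶ D.obj₂⟦(1 : ℤ)⟧, g = 0)
    (h₃ : ∀ g : qsg A n ⟶ D.obj₃, Dies (g ≫ D.mor₃)) (g : qsg A n ⟶ D.obj₁⟦(1 : ℤ)⟧) : Dies g := by
  obtain ⟨g', rfl⟩ := Triangle.coyoneda_exact₁ _ hD g (h₂ _)
  exact h₃ g'

/-- A surjection of torsion modules lifts maps in the limit. -/
theorem dies_mor₃_single {S : ShortComplex (ModuleCat.{u} A)} (hS : S.ShortExact)
    (hT : LocCoh.IsPowerTorsion (IsLocalRing.maximalIdeal A) S.X₂) (n : ℕ)
    (g : qsg A n ⟶ hS.singleTriangle.obj₃) : Dies (g ≫ hS.singleTriangle.mor₃) := by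
  obtain ⟨γ, rfl⟩ := (DerivedCategory.singleFunctor (ModuleCat.{u} A) 0).map_surjective g
  haveI := hS.epi_g
  obtain ⟨x, hx⟩ := (ModuleCat.epi_iff_surjective S.g).1 inferInstance
    (γ.hom (Submodule.Quotient.mk (1 : A)))
  obtain ⟨k, hk⟩ := hT x
  have hxl : ∀ a ∈ IsLocalRing.maximalIdeal A ^ max n k, a • x = 0 := fun a ha =>
    hk a (Ideal.pow_le_pow_right (le_max_right n k) ha)
  have hfac : qFac (le_max_left n k) ≫ γ = eltMap (max n k) x hxl ≫ S.g :=
    ModuleCat.hom_ext (Submodule.linearMap_qext _ (LinearMap.ext_ring (by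
      show γ.hom (Submodule.Quotient.mk (1 : A)) = S.g.hom ((1 : A) • x)
      rw [one_smul, hx])))
  refine ⟨max n k, le_max_left n k, ?_⟩
  have h1 : qS (le_max_left n k) ≫ (DerivedCategory.singleFunctor (ModuleCat.{u} A) 0).map γ =
      (DerivedCategory.singleFunctor (ModuleCat.{u} A) 0).map (eltMap (max n k) x hxl) ≫
        (DerivedCategory.singleFunctor (ModuleCat.{u} A) 0).map S.g := by
    rw [← Functor.map_comp, hfac, Functor.map_comp]
  exact (Category.assoc _ _ _).symm.trans ((congrArg (· ≫ hS.singleTriangle.mor₃) h1).trans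
    ((Category.assoc _ _ _).trans ((congrArg (_ ≫ ·)
      (Pretriangulated.comp_distTriang_mor_zero₂₃ _ hS.singleTriangle_distinguished)).trans comp_zero)))

theorem exists_torsion_resolution (N : ModuleCat.{u} A)
    (hN : LocCoh.IsPowerTorsion (IsLocalRing.maximalIdeal A) N) :
    ∃ (I Q : ModuleCat.{u} A) (i : N ⟶ I) (p : I ⟶ Q) (w : i ≫ p = 0),
      (ShortComplex.mk i p w).ShortExact ∧ Module.Injective A I ∧
      LocCoh.IsPowerTorsion (IsLocalRing.maximalIdeal A) I ∧
      LocCoh.IsPowerTorsion (IsLocalRing.maximalIdeal A) Q := by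
  obtain ⟨I₀, κ, hI₀, hκ⟩ := exists_baer_embedding N
  let m := IsLocalRing.maximalIdeal A
  let ι : (N : Type u) →ₗ[A] DRing.torsionSub m I₀ := κ.codRestrict _ fun x => by
    obtain ⟨k, hk⟩ := hN x
    exact ⟨k, fun a ha => by rw [← map_smul, hk a ha, map_zero]⟩
  have hι : Function.Injective ι := fun x y h => hκ (congrArg Subtype.val h)
  have hIt : LocCoh.IsPowerTorsion m (DRing.torsionSub m I₀) := fun x => by
    obtain ⟨k, hk⟩ := x.2
    exact ⟨k, fun a ha => Subtype.ext (hk a ha)⟩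
  have hQ : LocCoh.IsPowerTorsion m (DRing.torsionSub m I₀ ⧸ LinearMap.range ι) := fun y => by
    obtain ⟨x, rfl⟩ := Submodule.Quotient.mk_surjective _ y
    obtain ⟨k, hk⟩ := hIt x
    exact ⟨k, fun a ha => by rw [← Submodule.Quotient.mk_smul, hk a ha]; rfl⟩
  exact ⟨ModuleCat.of A (DRing.torsionSub m I₀), ModuleCat.of A (DRing.torsionSub m I₀ ⧸ LinearMap.range ι),
    ModuleCat.ofHom ι, ModuleCat.ofHom (LinearMap.range ι).mkQ,
    ModuleCat.hom_ext (LinearMap.ext fun x => (Submodule.Quotient.mk_eq_zero _).2 ⟨x, rfl⟩),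
    { exact := (ShortComplex.moduleCat_exact_iff_range_eq_ker _).2 (Submodule.ker_mkQ _).symm
      mono_f := (ModuleCat.mono_iff_injective _).2 hι
      epi_g := (ModuleCat.epi_iff_surjective _).2 (Submodule.mkQ_surjective _) },
    (baer_torsionSub hI₀ m).injective, hIt, hQ⟩

/-- Torsion modules have no higher cohomology with support in the closed point. -/
theorem dies_of_torsion (j : ℕ) : ∀ (N : ModuleCat.{u} A),
    LocCoh.IsPowerTorsion (IsLocalRing.maximalIdeal A) N →
    ∀ (n : ℕ) (g : qsg A n ⟶ (sg N 0)⟦((j + 1 : ℕ) : ℤ)⟧), Dies g := by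
  induction j with
  | zero =>
    intro N hN n g
    obtain ⟨I, Q, i, p, w, hS, hI, hIt, hQ⟩ := exists_torsion_resolution N hN
    refine dies_obj₁_shift hS.singleTriangle_distinguished ?_ (dies_mor₃_single hS hIt n) g
    exact fun f => hom_eq_zero_of_injective (qPow A n) I hI 1 one_pos f
  | succ j ih =>
    intro N hN n g
    obtain ⟨I, Q, i, p, w, hS, hI, hIt, hQ⟩ := exists_torsion_resolution N hN
    refine Dies.of_iso ((shiftFunctorAdd' (Dual.D A) ((j + 1 : ℕ) : ℤ) 1 ((j + 1 + 1 : ℕ) : ℤ)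
      (by push_cast; rfl)).app (sg N 0)) ?_
    refine dies_obj₁_shift (D := (Triangle.shiftFunctor (Dual.D A) ((j + 1 : ℕ) : ℤ)).obj hS.singleTriangle)
      (Triangle.shift_distinguished _ hS.singleTriangle_distinguished _) (fun f => ?_)
      (fun f => (ih Q hQ n f).comp _) _
    have e := ((shiftFunctorAdd' (Dual.D A) ((j + 1 : ℕ) : ℤ) 1 ((j + 1 + 1 : ℕ) : ℤ)
      (by push_cast; rfl)).app (sg I 0)).symm
    exact (cancel_mono e.hom).1 ((hom_eq_zero_of_injective (qPow A n) I hI ((j + 1 + 1 : ℕ) : ℤ)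
      (by omega) _).trans zero_comp.symm)

end LcCxLib

end
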