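import Groth.Agent.LcCxLib.DualityMod

/-!
The trace pairing is perfect on all shifts of finite modules, and on bounded below complexes with
finite cohomology.
-/

set_option autoImplicit false
set_option linter.style.haveILetI false
set_option linter.unusedSectionVars false
set_option maxHeartbeats 400000

universe u

open CategoryTheory CategoryTheory.Limits
open CategoryTheory.Pretriangulated (Triangle)
open Groth.Agent
open DTenLib.Point (hH sg)
open Groth.Agent.DualCxLib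

attribute [local instance] HasDerivedCategory.standard

noncomputable section

namespace LcCxLib

variable {A : Type u} [CommRing A] [IsLocalRing A] [IsNoetherianRing A] {ω : Dual.D A}
  {E : Type u} [AddCommGroup E] [Module A E] {T : Traces ω E}

section Step

variable (hE : Module.Baer A E) {D : Triangle (Dual.D A)} (hD : D ∈ distTriang (Dual.D A)) {c : A}
  {φ : D.obj₁ ⟶ D.obj₂} (hφ : D.mor₁ = c • φ)
include hE hD hφ

theorem exists_phi_of_killed (h₃ : DSurj T D.obj₃)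
    (χ : (D.obj₁⟦(1 : ℤ)⟧ ⟶ ω⟦(0 : ℤ)⟧) →ₗ[A] E) (hχ : c • χ = 0) :
    ∃ (n : ℕ) (g : qsg A n ⟶ D.obj₁⟦(1 : ℤ)⟧), phi T n g = χ := by
  have hv : χ ∘ₗ pre (D.mor₁⟦(1 : ℤ)⟧') (ω⟦(0 : ℤ)⟧) = 0 := LinearMap.ext fun f => by
    show χ (D.mor₁⟦(1 : ℤ)⟧' ≫ f) = 0
    rw [hφ, Functor.map_smul, Linear.smul_comp, map_smul]
    exact LinearMap.congr_fun hχ _
  obtain ⟨ψ, hψ⟩ := exists_comp_of_exact hE (pre (D.mor₁⟦(1 : ℤ)⟧') (ω⟦(0 : ℤ)⟧))
    (pre D.mor₃ (ω⟦(0 : ℤ)⟧)) (fun q hq => by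
      obtain ⟨p, hp⟩ := Triangle.yoneda_exact₃ _ (Pretriangulated.rot_of_distTriang _ hD) q hq
      exact ⟨-p, ((Preadditive.comp_neg _ _).trans (Preadditive.neg_comp _ _).symm).trans hp.symm⟩)
    χ hv
  obtain ⟨n, g, hg⟩ := h₃ ψ
  exact ⟨n, g ≫ D.mor₃, by rw [phi_comp, hg, hψ]⟩

theorem dies_of_phi (h₂ : DSurj T D.obj₂) (h₃ : DInj T D.obj₃) (n : ℕ)
    (hc : c ∈ IsLocalRing.maximalIdeal A ^ n) (g : qsg A n ⟶ D.obj₁⟦(1 : ℤ)⟧)
    (hg : phi T n g = 0) : Dies g := by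
  have h0 : g ≫ D.mor₁⟦(1 : ℤ)⟧' = 0 := by
    rw [hφ, Functor.map_smul, Linear.comp_smul, ← Linear.smul_comp, pow_smul_eq_zero hc g, zero_comp]
  obtain ⟨g', rfl⟩ := Triangle.coyoneda_exact₁ _ hD g h0
  obtain ⟨ψ, hψ⟩ := exists_comp_of_exact hE (pre D.mor₃ (ω⟦(0 : ℤ)⟧)) (pre D.mor₂ (ω⟦(0 : ℤ)⟧))
    (fun q hq => (Triangle.yoneda_exact₃ _ hD q hq).imp fun _ h => h.symm)
    (phi T n g') (by rw [← phi_comp]; exact hg)
  obtain ⟨l, h, hh⟩ := h₂ ψ
  have hd := (h₃ (max n l) (qS (le_max_left n l) ≫ g' - qS (le_max_right n l) ≫ h ≫ D.mor₂)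
    (by rw [phi_sub, phi_qS, phi_qS, phi_comp, hh, hψ, sub_self])).comp D.mor₃
  rw [Preadditive.sub_comp, Category.assoc, Category.assoc, Category.assoc,
    Pretriangulated.comp_distTriang_mor_zero₂₃ _ hD, comp_zero, comp_zero, sub_zero] at hd
  exact hd.of_qS

end Step

variable (hω : Dual.IsDualizing A ω) (hn : Dual.IsNormalized A ω)
  {f : IsLocalRing.ResidueField A →ₗ[A] E} (hf : InjHull.IsInjectiveHull f)
include hω hn hf

theorem dPerf_sg_finLen (M : Type u) [AddCommGroup M] [Module A M] [Module.Finite A M] {k : ℕ}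
    (hk : ∀ a ∈ IsLocalRing.maximalIdeal A ^ k, ∀ x : M, a • x = 0) :
    DPerf T (sg (ModuleCat.of A M) 0) := by
  have hb := theta_bijective hω hn T hf M hk
  refine ⟨fun n g hg => ?_, fun χ => ?_⟩
  · obtain ⟨γ, rfl⟩ := (DerivedCategory.singleFunctor (ModuleCat.{u} A) 0).map_surjective g
    let x : M := γ.hom (Submodule.Quotient.mk (1 : A))
    have hx : ∀ a ∈ IsLocalRing.maximalIdeal A ^ n, a • x = 0 := fun a ha => by
      show a • γ.hom _ = 0
      rw [← map_smul, ← Submodule.Quotient.mk_smul, smul_eq_mul, mul_one,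
        (Submodule.Quotient.mk_eq_zero _).2 ha, map_zero]
    have hγ : eltMap (M := ModuleCat.of A M) n x hx = γ :=
      ModuleCat.hom_ext (Submodule.linearMap_qext _ (LinearMap.ext_ring (one_smul A x)))
    let x' : DRing.torsionSub (IsLocalRing.maximalIdeal A) (ModuleCat.of A M) := ⟨x, n, hx⟩
    have h0 : T.theta (ModuleCat.of A M) x' = 0 := LinearMap.ext fun q => by
      rw [T.theta_apply x' n hx, hγ]
      exact LinearMap.congr_fun hg q
    have hx0 : x = 0 := congrArg Subtype.val (hb.1 (h0.trans (map_zero _).symm))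
    refine ⟨n, le_rfl, ?_⟩
    have : γ = 0 := ModuleCat.hom_ext (Submodule.linearMap_qext _ (LinearMap.ext_ring hx0))
    rw [this, Functor.map_zero, comp_zero]
  · obtain ⟨⟨x, n, hx⟩, hχ⟩ := hb.2 χ
    exact ⟨n, (DerivedCategory.singleFunctor (ModuleCat.{u} A) 0).map (eltMap n x hx),
      LinearMap.ext fun q => (T.theta_apply ⟨x, n, hx⟩ n hx q).symm.trans (LinearMap.congr_fun hχ q)⟩

theorem dPerf_shift_finLen (M : Type u) [AddCommGroup M] [Module A M] [Module.Finite A M] {k : ℕ}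
    (hk : ∀ a ∈ IsLocalRing.maximalIdeal A ^ k, ∀ x : M, a • x = 0) (j : ℤ) :
    DPerf T ((sg (ModuleCat.of A M) 0)⟦j⟧) := by
  by_cases hj : j = 0
  · subst hj
    exact (dPerf_sg_finLen hω hn hf M hk).of_iso ((shiftFunctorZero (Dual.D A) ℤ).app _).symm
  · refine dPerf_of_vanishing (fun n g => ?_) ((shiftHomL ω _ j).toEquiv.subsingleton_congr.2
      (subsingleton_ext_finLen hn M (isFiniteLength_of_pow_kill M hk) (-j) (by omega)))
    rcases lt_or_gt_of_ne hj with h | h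
    · exact ⟨n, le_rfl, by rw [hom_shift_eq_zero _ j h g, comp_zero]⟩
    · obtain ⟨i, rfl⟩ : ∃ i : ℕ, j = ((i + 1 : ℕ) : ℤ) := ⟨(j - 1).toNat, by omega⟩
      exact dies_of_torsion i _ (fun x => ⟨k, fun a ha => hk a ha x⟩) n g

theorem dPerf_shift_of_regular (Q : Type u) [AddCommGroup Q] [Module A Q] [Module.Finite A Q] {x : A}
    (hx : x ∈ IsLocalRing.maximalIdeal A) (hreg : IsSMulRegular Q x) (j : ℤ)
    (ih : ∀ (M : Type u) [AddCommGroup M] [Module A M] [Module.Finite A M],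
      DPerf T ((sg (ModuleCat.of A M) 0)⟦j⟧)) :
    DPerf T ((sg (ModuleCat.of A Q) 0)⟦j + 1⟧) := by
  have hE : Module.Baer A E := Module.Baer.of_injective hf.isInjective
  refine DPerf.of_iso ((shiftFunctorAdd' (Dual.D A) j 1 (j + 1) rfl).app _).symm ?_
  let X := ((sg (ModuleCat.of A Q) 0)⟦j⟧)⟦(1 : ℤ)⟧
  let S : ℕ → ShortComplex (ModuleCat.{u} A) := fun n => mulSeq (ModuleCat.of A Q) (x ^ n)
  have hS : ∀ n, (S n).ShortExact := fun n => shortExact_mulSeq (hreg.pow n)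
  let D : ℕ → Triangle (Dual.D A) := fun n =>
    (Triangle.shiftFunctor (Dual.D A) j).obj (hS n).singleTriangle
  have hD : ∀ n, D n ∈ distTriang (Dual.D A) := fun n =>
    Triangle.shift_distinguished _ (hS n).singleTriangle_distinguished j
  have hφ : ∀ n, ∃ φ : (D n).obj₁ ⟶ (D n).obj₂, (D n).mor₁ = x ^ n • φ := fun n => by
    refine ⟨j.negOnePow • ((DerivedCategory.singleFunctor (ModuleCat.{u} A) 0).map
      (𝟙 (ModuleCat.of A Q)))⟦j⟧', ?_⟩
    show j.negOnePow • ((DerivedCategory.singleFunctor (ModuleCat.{u} A) 0).map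
      (x ^ n • 𝟙 (ModuleCat.of A Q)))⟦j⟧' = _
    rw [Functor.map_smul, Functor.map_smul, smul_comm]
    rfl
  refine ⟨fun n g hg => ?_, fun χ => ?_⟩
  · obtain ⟨φ, hφ'⟩ := hφ n
    exact dies_of_phi hE (hD n) hφ' (ih Q).2 (ih _).1 n (Ideal.pow_mem_pow hx n) g hg
  · haveI := Ext_finite hω Q (-(j + 1))
    haveI : IsNoetherian A (X ⟶ ω⟦(0 : ℤ)⟧) :=
      isNoetherian_of_linearEquiv ((precompL ((shiftFunctorAdd' (Dual.D A) j 1 (j + 1) rfl).app _)
        (ω⟦(0 : ℤ)⟧)).symm.trans (shiftHomL ω (sg (ModuleCat.of A Q) 0) (j + 1))).symm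
    haveI : Module.Finite A ((D 0).obj₁⟦(1 : ℤ)⟧ ⟶ ω⟦(0 : ℤ)⟧) :=
      inferInstanceAs (Module.Finite A (X ⟶ ω⟦(0 : ℤ)⟧))
    obtain ⟨n, hn'⟩ := exists_pow_kill_of_finite (V := X ⟶ ω⟦(0 : ℤ)⟧) (InjHullLib.isPowerTorsion_hull_local hf) χ
    obtain ⟨φ, hφ'⟩ := hφ n
    exact exists_phi_of_killed hE (hD n) hφ' (ih _).2 χ (hn' _ (Ideal.pow_mem_pow hx n))

/-- The pairing is perfect on shifts of finite modules. -/
theorem dPerf_shift_module : ∀ (j : ℤ) (M : Type u) [AddCommGroup M] [Module A M] [Module.Finite A M],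
    DPerf T ((sg (ModuleCat.of A M) 0)⟦j⟧) := by
  have hE : Module.Baer A E := Module.Baer.of_injective hf.isInjective
  have neg : ∀ (j : ℤ), j < 0 → ∀ (M : Type u) [AddCommGroup M] [Module A M] [Module.Finite A M],
      DPerf T ((sg (ModuleCat.of A M) 0)⟦j⟧) := fun j hj M _ _ _ =>
    dPerf_of_vanishing (fun n g => ⟨n, le_rfl, by rw [hom_shift_eq_zero _ j hj g, comp_zero]⟩)
      ((shiftHomL ω _ j).toEquiv.subsingleton_congr.2 (subsingleton_ext_pos hω hn M (-j) (by omega)))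
  suffices h : ∀ (k : ℕ) (M : Type u) [AddCommGroup M] [Module A M] [Module.Finite A M],
      DPerf T ((sg (ModuleCat.of A M) 0)⟦(k : ℤ) - 1⟧) by
    intro j M _ _ _
    by_cases hj : j < 0
    · exact neg j hj M
    · have := h (j + 1).toNat M
      rwa [show ((j + 1).toNat : ℤ) - 1 = j by omega] at this
  intro k
  induction k with
  | zero => exact fun M _ _ _ => neg _ (by omega) M
  | succ k ih =>
    intro M _ _ _
    rw [show ((k + 1 : ℕ) : ℤ) - 1 = ((k : ℤ) - 1) + 1 by push_cast; ring]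
    let j : ℤ := (k : ℤ) - 1
    let N := DRing.torsionSub (IsLocalRing.maximalIdeal A) M
    obtain ⟨e, he⟩ := exists_pow_kill_of_finite (W := N)
      (LocCohLib.isPowerTorsion_gamma (IsLocalRing.maximalIdeal A) (ModuleCat.of A M))
      (LinearMap.id : N →ₗ[A] N)
    have hN := fun i => dPerf_shift_finLen hω hn hf (T := T) N (k := e)
      (fun a ha x => LinearMap.congr_fun (he a ha) x) i
    obtain ⟨x, hx, hreg⟩ := LocCohLib.exists_regular_mem (R := A) M
    have hQ := dPerf_shift_of_regular hω hn hf (T := T) (M ⧸ N) hx hreg j ih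
    let S : ShortComplex (ModuleCat.{u} A) := ShortComplex.mk (ModuleCat.ofHom N.subtype) (ModuleCat.ofHom N.mkQ)
      (ModuleCat.hom_ext (LinearMap.ext fun x => (Submodule.Quotient.mk_eq_zero _).2 x.2))
    have hS : S.ShortExact :=
      { exact := (ShortComplex.moduleCat_exact_iff_range_eq_ker S).2
          ((Submodule.range_subtype _).trans (Submodule.ker_mkQ _).symm)
        mono_f := (ModuleCat.mono_iff_injective _).2 Subtype.val_injective
        epi_g := (ModuleCat.epi_iff_surjective _).2 (Submodule.mkQ_surjective _) }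
    let D := (Triangle.shiftFunctor (Dual.D A) (j + 1)).obj hS.singleTriangle
    have hD : D ∈ distTriang (Dual.D A) :=
      Triangle.shift_distinguished _ hS.singleTriangle_distinguished _
    have h₁' : DPerf T (D.obj₁⟦(1 : ℤ)⟧) :=
      (hN (j + 1 + 1)).of_iso ((shiftFunctorAdd' (Dual.D A) (j + 1) 1 (j + 1 + 1) rfl).app _)
    have h₃' : DPerf T (D.obj₃⟦(-1 : ℤ)⟧) :=
      (ih (M ⧸ N)).of_iso ((shiftFunctorAdd' (Dual.D A) (j + 1) (-1) j (by omega)).app _)
    exact ⟨dInj_obj₂ hE D hD hQ.1 h₃'.2 (hN (j + 1)).1,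
      dSurj_obj₂ hE D hD hQ.2 h₁'.1 (hN (j + 1)).2⟩

end LcCxLib

end
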