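import Groth.Agent.DualCxLib.LocDual
import Groth.Agent.DualCxLib.InjAmp
import Groth.Agent.DualCxLib.DimFn

/-!
Maps out of bounded below complexes with finite cohomology into objects of finite injective
amplitude: truncation, finiteness, localization.
-/

set_option autoImplicit false
set_option linter.style.haveILetI false
set_option linter.unusedSectionVars false
set_option maxHeartbeats 400000

universe u

open CategoryTheory CategoryTheory.Limits
open CategoryTheory.Pretriangulated (Triangle)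
open Groth.Agent
open DTenLib.Point (hH sg)
open Groth.Agent.DualCxLib

attribute [local instance] HasDerivedCategory.standard

noncomputable section

namespace LcCxLib

variable {A : Type u} [CommRing A]

/-- `W` receives no maps from objects living in degrees at least `b`. -/
def NoMapsFrom (b : ℤ) (W : Dual.D A) : Prop :=
  ∀ Y : Dual.D A, Y.IsGE b → Subsingleton (Y ⟶ W)

theorem noMapsFrom_shift {W : Dual.D A} {α β : ℤ} (h : DRing.HasInjAmplitudeIn A α β W) (j b : ℤ)
    (hb : β - j < b) : NoMapsFrom b (W⟦j⟧) := fun Y hY => by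
  haveI := hY
  haveI := DerivedCategory.TStructure.t.isGE_shift Y b (-j) (b + j) (by omega)
  exact (shiftL Y W j).toEquiv.subsingleton_congr.1 (subsingleton_of_forall_eq 0 fun g =>
    DTenLib.hom_eq_zero_of_injAmplitude h (g := b + j) inferInstance (by omega) g)

theorem exists_injAmplitude {ω : Dual.D A} (hω : Dual.IsDualizing A ω) :
    ∃ α β : ℤ, DRing.HasInjAmplitudeIn A α β ω := by
  obtain ⟨a, b, hab⟩ := hω.finite_injective_dimension
  exact ⟨a, b, hasInjAmplitudeIn_of_ext fun I i hi => hab (A ⧸ I) i hi⟩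

/-- A bounded truncation. -/
theorem exists_trunc (X : Dual.D A) (a : ℤ) (hXa : ∀ i, i < a → Subsingleton (Dual.HD A X i))
    (hXf : ∀ i, Module.Finite A (Dual.HD A X i)) (b : ℤ) :
    ∃ (X' : Dual.D A) (v : X' ⟶ X),
      (∀ i, (i < a ∨ a + ((b - a).toNat : ℕ) ≤ i) → IsZero ((hH A i).obj X')) ∧
      (∀ i, Module.Finite A ((hH A i).obj X')) ∧
      ∀ W, NoMapsFrom b W → Function.Bijective (pre v W) := by
  obtain ⟨X', Y, hX, hY, u, v, d, hT⟩ :=
    DerivedCategory.TStructure.t.exists_triangle X (b - 1) b (by omega)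
  haveI : X'.IsLE (b - 1) := ⟨hX⟩
  haveI : Y.IsGE b := ⟨hY⟩
  let D : Triangle (Dual.D A) := Triangle.mk u v d
  have hY0 : ∀ i, i < b → IsZero ((hH A i).obj Y) := fun i hi => DerivedCategory.isZero_of_isGE Y b i hi
  have hu : ∀ i, i < b → IsIso ((hH A i).map u) := fun i hi => by
    have := (DerivedCategory.HomologySequence.mono_homologyMap_mor₁_iff D hT (i - 1) i
      (by omega)).mpr ((hY0 (i - 1) (by omega)).eq_of_src _ _)
    have := (DerivedCategory.HomologySequence.epi_homologyMap_mor₁_iff D hT i).mpr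
      ((hY0 i hi).eq_of_tgt _ _)
    exact isIso_of_mono_of_epi ((hH A i).map D.mor₁)
  have hXz : ∀ i, b ≤ i → IsZero ((hH A i).obj X') := fun i hi =>
    DerivedCategory.isZero_of_isLE X' (b - 1) i (by omega)
  refine ⟨X', u, fun i hi => ?_, fun i => ?_, fun W hW => ⟨?_, fun g => ?_⟩⟩
  · by_cases hib : b ≤ i
    · exact hXz i hib
    · haveI := hu i (by omega)
      haveI := hXa i (by omega)
      exact (ModuleCat.isZero_of_subsingleton _).of_iso (asIso ((hH A i).map u))
  · by_cases hib : b ≤ i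
    · haveI := ModuleCat.subsingleton_of_isZero (hXz i hib)
      infer_instance
    · haveI := hu i (by omega)
      haveI := hXf i
      exact Module.Finite.equiv (asIso ((hH A i).map u)).toLinearEquiv.symm
  · refine (injective_iff_map_eq_zero _).2 fun f hf => ?_
    obtain ⟨p, rfl⟩ := Triangle.yoneda_exact₂ _ hT f hf
    haveI : Subsingleton (D.obj₃ ⟶ W) := hW Y inferInstance
    rw [Subsingleton.elim p 0, comp_zero]
    rfl
  · haveI := DerivedCategory.TStructure.t.isGE_shift Y b (-1) (b + 1) (by omega)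
    haveI : (Y⟦(-1 : ℤ)⟧).IsGE b := DerivedCategory.TStructure.t.isGE_of_ge _ b (b + 1) (by omega)
    haveI : Subsingleton (D.invRotate.obj₁ ⟶ W) := hW (Y⟦(-1 : ℤ)⟧) inferInstance
    obtain ⟨p, hp⟩ := Triangle.yoneda_exact₂ _ (Pretriangulated.inv_rot_of_distTriang _ hT) g
      (Subsingleton.elim _ _)
    exact ⟨p, hp.symm⟩

section Noetherian

variable [IsNoetherianRing A] {ω : Dual.D A} (hω : Dual.IsDualizing A ω)
include hω

theorem devissable_isNoetherian :
    DRingLib.Devissable (fun X : Dual.D A => ∀ j : ℤ, IsNoetherian A (X ⟶ ω⟦j⟧)) where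
  iso e h j := by
    haveI := h j
    exact isNoetherian_of_linearEquiv (precompL e (ω⟦j⟧))
  zero h j := by
    haveI : Subsingleton (_ ⟶ ω⟦j⟧) := ⟨fun f g => h.eq_of_src f g⟩
    infer_instance
  ext D hD h₁ h₃ j := @isNoetherian_hom_of_triangle A _ D hD (ω⟦j⟧) (h₁ j) (h₃ j)

/-- `Hom` into the dualizing complex is finite. -/
theorem isNoetherian_hom (X : Dual.D A) (a : ℤ) (hXa : ∀ i, i < a → Subsingleton (Dual.HD A X i))
    (hXf : ∀ i, Module.Finite A (Dual.HD A X i)) (j : ℤ) : IsNoetherian A (X ⟶ ω⟦j⟧) := by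
  obtain ⟨α, β, hamp⟩ := exists_injAmplitude hω
  obtain ⟨X', v, hX', hX'f, hbij⟩ := exists_trunc X a hXa hXf (β - j + 1)
  haveI := (devissable_isNoetherian hω).of_homology a _ X' hX' (fun i l => by
    haveI := hX'f i
    haveI := Ext_finite hω ((hH A i).obj X') (l + i)
    exact isNoetherian_of_linearEquiv ((((precompL (DRingLib.singleShiftIso ((hH A i).obj X') i).symm
      (ω⟦l⟧)).trans (shiftL _ (ω⟦l⟧) i)).trans (postcompL _ (shift₂ ω l i (l + i) rfl))).symm)) j
  exact isNoetherian_of_linearEquiv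
    (LinearEquiv.ofBijective _ (hbij _ (noMapsFrom_shift hamp j _ (by omega)))).symm

end Noetherian

section Loc

variable {S : Type u} [CommRing S] [Algebra A S] (M : Submonoid A) [IsLocalization M S]

local notation "φ" => algebraMap A S

theorem isGE_loc {X : Dual.D A} {Z : Dual.D S} {η : X ⟶ (DRing.restrictD φ).obj Z}
    (hL : IsLocH φ M η) (b : ℤ) (hX : ∀ i, i < b → Subsingleton (Dual.HD A X i)) :
    ∀ i, i < b → Subsingleton (Dual.HD S Z i) := fun i hi => by
  obtain ⟨e⟩ := DRingLib.exists_homology_iso_mapDerived (ModuleCat.restrictScalars.{u} φ) Z i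
  haveI := hL i
  haveI : Subsingleton ((hH A i).obj X) := hX i hi
  haveI : Subsingleton ((hH A i).obj ((DRing.restrictD φ).obj Z)) :=
    subsingleton_of_forall_eq 0 fun x => by
      obtain ⟨⟨m, s⟩, hs⟩ := IsLocalizedModule.surj M ((hH A i).map η).hom x
      exact IsLocalizedModule.smul_injective ((hH A i).map η).hom s
        (show s • x = s • (0 : (hH A i).obj ((DRing.restrictD φ).obj Z)) by
          rw [hs, Subsingleton.elim m 0, map_zero, smul_zero])
  exact e.toLinearEquiv.symm.toEquiv.subsingleton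

include M in
theorem noMapsFrom_restrict [DRing.HasLBaseChange φ] {W : Dual.D S} {b : ℤ} (h : NoMapsFrom b W) :
    NoMapsFrom b ((DRing.restrictD φ).obj W) := fun Y hY => by
  haveI := hY
  obtain ⟨η, hη, hL⟩ := exists_loc_base (S := S) M Y
  haveI : ((DRing.LBaseChange φ).obj Y).IsGE b :=
    (DerivedCategory.isGE_iff _ b).2 fun i hi =>
      haveI := isGE_loc M hL b (fun i hi => ModuleCat.subsingleton_of_isZero
        (DerivedCategory.isZero_of_isGE Y b i hi)) i hi
      ModuleCat.isZero_of_subsingleton _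
  haveI := h ((DRing.LBaseChange φ).obj Y) inferInstance
  exact (Equiv.ofBijective _ (hη W)).subsingleton_congr.1 inferInstance

/-- `Hom` commutes with localization, for bounded below sources. -/
theorem hom_loc_above [IsNoetherianRing A] {X Y : Dual.D A} {W : Dual.D S}
    {ηY : Y ⟶ (DRing.restrictD φ).obj W} {a' a b : ℤ} (hY : IsLocH φ M ηY) (hYge : Y.IsGE a')
    (hXa : ∀ i, i < a → Subsingleton (Dual.HD A X i)) (hXf : ∀ i, Module.Finite A (Dual.HD A X i))
    (h₁ : NoMapsFrom b Y) (h₂ : NoMapsFrom b ((DRing.restrictD φ).obj W)) :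
    (∀ f : X ⟶ Y, f ≫ ηY = 0 → ∃ s ∈ M, s • f = 0) ∧
      ∀ h : X ⟶ (DRing.restrictD φ).obj W, ∃ s ∈ M, ∃ f : X ⟶ Y, s • h = f ≫ ηY := by
  obtain ⟨X', v, hX', hX'f, hbij⟩ := exists_trunc X a hXa hXf b
  obtain ⟨hker, hsurj⟩ := hom_loc hY hYge hX' hX'f
  refine ⟨fun f hf => ?_, fun h => ?_⟩
  · obtain ⟨s, hs, hsf⟩ := hker (pre v Y f) (by
      show (v ≫ f) ≫ ηY = 0
      rw [Category.assoc, hf, comp_zero])
    exact ⟨s, hs, (hbij Y h₁).1 (by rw [map_smul, hsf, map_zero])⟩
  · obtain ⟨s, hs, f', hf⟩ := hsurj (v ≫ h)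
    obtain ⟨f, rfl⟩ := (hbij Y h₁).2 f'
    refine ⟨s, hs, f, (hbij _ h₂).1 ?_⟩
    show v ≫ (s • h) = v ≫ f ≫ ηY
    rw [Linear.comp_smul, hf]
    exact Category.assoc v f ηY

end Loc

end LcCxLib

end
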