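import Groth.Agent.LcCxLib.DualityCx
import Groth.Agent.LcCxLib.CdBound
import Groth.Agent.LcCxLib.Trunc

/-!
Local duality for complexes with finite cohomology.
-/

set_option autoImplicit false
set_option linter.style.haveILetI false
set_option linter.unusedSectionVars false
set_option maxHeartbeats 400000

universe u

open CategoryTheory CategoryTheory.Limits Opposite
open CategoryTheory.Pretriangulated (Triangle)
open Groth.Agent
open DTenLib.Point (hH sg)
open Groth.Agent.DualCxLib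

attribute [local instance] HasDerivedCategory.standard

noncomputable section

namespace LcCxLib

variable {A : Type u} [CommRing A] [IsLocalRing A] [IsNoetherianRing A] {ω : Dual.D A}
  {E : Type u} [AddCommGroup E] [Module A E] {T : Traces ω E}

/-- Cohomology below a truncation. -/
theorem exists_trunc_triangle (K : Dual.D A) (c : ℤ) :
    ∃ (D : Triangle (Dual.D A)) (_ : D ∈ distTriang (Dual.D A)), D.obj₂ = K ∧
      D.obj₁.IsLE (c - 1) ∧ D.obj₃.IsGE c ∧
      ∀ i, c ≤ i → IsIso ((hH A i).map D.mor₂) := by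
  obtain ⟨X, Y, hX, hY, u, v, d, hT⟩ :=
    DerivedCategory.TStructure.t.exists_triangle K (c - 1) c (by omega)
  haveI : X.IsLE (c - 1) := ⟨hX⟩
  refine ⟨Triangle.mk u v d, hT, rfl, ⟨hX⟩, ⟨hY⟩, fun i hi => ?_⟩
  have h0 : ∀ j, c ≤ j → IsZero ((hH A j).obj X) := fun j hj =>
    DerivedCategory.isZero_of_isLE X (c - 1) j (by omega)
  have := (DerivedCategory.HomologySequence.exact₂ (Triangle.mk u v d) hT i).mono_g
    ((h0 i hi).eq_of_src _ _)
  have := (DerivedCategory.HomologySequence.exact₃ (Triangle.mk u v d) hT i (i + 1) rfl).epi_f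
    ((h0 (i + 1) (by omega)).eq_of_tgt _ _)
  exact isIso_of_mono_of_epi ((hH A i).map (Triangle.mk u v d).mor₂)

variable (hω : Dual.IsDualizing A ω) (hn : Dual.IsNormalized A ω)
  {f : IsLocalRing.ResidueField A →ₗ[A] E} (hf : InjHull.IsInjectiveHull f)
include hω hn hf

/-- The pairing is perfect on all complexes with finite cohomology. -/
theorem dPerf_shift_finite (K : Dual.D A) (hK : ∀ i, Module.Finite A (Dual.HD A K i)) (j : ℤ) :
    DPerf T (K⟦j⟧) := by
  obtain ⟨a₀, ha₀⟩ := isGE_dualizing hω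
  obtain ⟨r, hr⟩ := exists_cd_bound (A := A) (IsLocalRing.maximalIdeal A)
  obtain ⟨D₀, hD₀, hK₂, hX, hY, hiso⟩ := exists_trunc_triangle K (min (j - 1 - r) (a₀ + j - 1))
  subst hK₂
  set c := min (j - 1 - r) (a₀ + j - 1) with hc
  haveI := hX
  haveI := hY
  have hYP : ∀ i, DPerf T (D₀.obj₃⟦i⟧) := dPerf_shift hω hn hf D₀.obj₃ c
    (fun i hi => ModuleCat.subsingleton_of_isZero (DerivedCategory.isZero_of_isGE D₀.obj₃ c i hi))
    (fun i => by
      by_cases hi : c ≤ i
      · haveI := hiso i hi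
        haveI := hK i
        exact Module.Finite.equiv (asIso ((hH A i).map D₀.mor₂)).toLinearEquiv
      · haveI := ModuleCat.subsingleton_of_isZero
          (DerivedCategory.isZero_of_isGE D₀.obj₃ c i (by omega))
        infer_instance)
  have hXP : ∀ i, j - 1 ≤ i → DPerf T (D₀.obj₁⟦i⟧) := fun i hi => by
    have hs := hr D₀.obj₁ c (fun l hl => ModuleCat.subsingleton_of_isZero
      (DerivedCategory.isZero_of_isLE D₀.obj₁ (c - 1) l (by omega))) i (by omega)
    refine dPerf_of_vanishing (fun n g => ?_) (subsingleton_of_forall_eq 0 fun g => ?_)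
    · have h := (forall_HDI_smul_iff_dies D₀.obj₁ i 1).1 (fun x => @Subsingleton.elim _ hs _ _) n g
      rwa [one_smul] at h
    · haveI := DerivedCategory.TStructure.t.isLE_shift D₀.obj₁ (c - 1) i (c - 1 - i) (by omega)
      haveI := DerivedCategory.TStructure.t.isGE_shift ω a₀ 0 a₀ (by omega)
      exact DerivedCategory.TStructure.t.zero g (c - 1 - i) a₀ (by omega)
  let D := (Triangle.shiftFunctor (Dual.D A) j).obj D₀
  have hD : D ∈ distTriang (Dual.D A) := Triangle.shift_distinguished _ hD₀ _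
  have h₁' : DPerf T (D.obj₁⟦(1 : ℤ)⟧) :=
    (hXP (j + 1) (by omega)).of_iso ((shiftFunctorAdd' (Dual.D A) j 1 (j + 1) rfl).app D₀.obj₁)
  have h₃' : DPerf T (D.obj₃⟦(-1 : ℤ)⟧) :=
    (hYP (j + -1)).of_iso ((shiftFunctorAdd' (Dual.D A) j (-1) (j + -1) rfl).app D₀.obj₃)
  have hE : Module.Baer A E := Module.Baer.of_injective hf.isInjective
  exact ⟨dInj_obj₂ hE D hD (hYP j).1 h₃'.2 (hXP j (by omega)).1,
    dSurj_obj₂ hE D hD (hYP j).2 h₁'.1 (hXP j (by omega)).2⟩

/-- Local duality: local cohomology is the dual of maps into `ω`. -/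
theorem nonempty_HDI_equiv_dual (K : Dual.D A) (hK : ∀ i, Module.Finite A (Dual.HD A K i)) (i : ℤ) :
    Nonempty (Dual2.HDI A (IsLocalRing.maximalIdeal A) K i ≃ₗ[A] ((K ⟶ ω⟦-i⟧) →ₗ[A] E)) := by
  obtain ⟨T⟩ := nonempty_traces hω hn hf
  obtain ⟨hinj, hsurj⟩ := dPerf_shift_finite hω hn hf (T := T) K hK i
  haveI := preservesNat (A := A)
  let F : ℕᵒᵖᵒᵖ ⥤ ModuleCat.{u + 1} A :=
    (localCohomology.ringModIdeals (localCohomology.idealPowersDiagram (IsLocalRing.maximalIdeal A)) ⋙
      DerivedCategory.singleFunctor (ModuleCat.{u} A) 0).op ⋙ (linearYoneda A (Dual.D A)).obj (K⟦i⟧)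
  let leg : ∀ n : ℕᵒᵖᵒᵖ, (qsg A n.unop.unop ⟶ K⟦i⟧) →ₗ[A] ((K⟦i⟧ ⟶ ω⟦(0 : ℤ)⟧) →ₗ[A] E) := fun n =>
    { toFun := phi T n.unop.unop
      map_add' := phi_add T n.unop.unop
      map_smul' := fun c g => LinearMap.ext fun q => by
        show T.ι _ ((c • g) ≫ q) = c • T.ι _ (g ≫ q)
        rw [Linear.smul_comp, map_smul] }
  let C : Cocone F :=
    { pt := ModuleCat.of A ((K⟦i⟧ ⟶ ω⟦(0 : ℤ)⟧) →ₗ[A] E)
      ι :=
        { app := fun n => ModuleCat.ofHom (leg n)
          naturality := fun n k a => ModuleCat.hom_ext (LinearMap.ext fun g =>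
            phi_qS T (leOfHom a.unop.unop) g) } }
  haveI : IsIso (colimit.desc F C) := by
    rw [ConcreteCategory.isIso_iff_bijective]
    refine ⟨(injective_iff_map_eq_zero (colimit.desc F C).hom).2 fun z hz => ?_, fun x => ?_⟩
    · obtain ⟨n, g, rfl⟩ := Concrete.colimit_exists_rep F z
      have h1 : phi T n.unop.unop g = 0 := (ConcreteCategory.congr_hom (colimit.ι_desc C n) g).symm.trans hz
      obtain ⟨k, hk, hgk⟩ := hinj n.unop.unop g h1
      let u : n ⟶ op (op k) := (homOfLE hk).op.op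
      have h2 : (F.map u).hom g = 0 := hgk
      exact (ConcreteCategory.congr_hom (colimit.w F u) g).symm.trans
        ((congrArg (colimit.ι F (op (op k))) h2).trans (map_zero (colimit.ι F _).hom))
    · obtain ⟨n, g, hg⟩ := hsurj x
      exact ⟨colimit.ι F (op (op n)) g,
        (ConcreteCategory.congr_hom (colimit.ι_desc C (op (op n))) g).trans hg⟩
  exact ⟨((asIso (colimit.desc F C)).toLinearEquiv).trans
    ((shiftHomL ω K i).arrowCongr (LinearEquiv.refl A E))⟩

omit hn hf in
/-- `Hom` into the dualizing complex is finite. -/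
theorem isNoetherian_hom_finite (K : Dual.D A) (hK : ∀ i, Module.Finite A (Dual.HD A K i)) (j : ℤ) :
    IsNoetherian A (K ⟶ ω⟦j⟧) := by
  obtain ⟨a₀, ha₀⟩ := isGE_dualizing hω
  obtain ⟨D₀, hD₀, hK₂, hX, hY, hiso⟩ := exists_trunc_triangle K (a₀ - j)
  subst hK₂
  haveI := hX
  haveI := hY
  haveI := DerivedCategory.TStructure.t.isGE_shift ω a₀ j (a₀ - j) (by omega)
  haveI : IsNoetherian A (D₀.obj₁ ⟶ ω⟦j⟧) := by
    haveI : Subsingleton (D₀.obj₁ ⟶ ω⟦j⟧) := subsingleton_of_forall_eq 0 fun g =>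
      DerivedCategory.TStructure.t.zero g (a₀ - j - 1) (a₀ - j) (by omega)
    infer_instance
  haveI := isNoetherian_hom hω D₀.obj₃ (a₀ - j)
    (fun i hi => ModuleCat.subsingleton_of_isZero (DerivedCategory.isZero_of_isGE D₀.obj₃ (a₀ - j) i hi))
    (fun i => by
      by_cases hi : a₀ - j ≤ i
      · haveI := hiso i hi
        haveI := hK i
        exact Module.Finite.equiv (asIso ((hH A i).map D₀.mor₂)).toLinearEquiv
      · haveI := ModuleCat.subsingleton_of_isZero
          (DerivedCategory.isZero_of_isGE D₀.obj₃ (a₀ - j) i (by omega))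
        infer_instance) j
  exact isNoetherian_hom_of_triangle D₀ hD₀ (ω⟦j⟧)

end LcCxLib

end
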