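import Groth.Agent.LcCxLib.Null
import Groth.Agent.LcCxLib.Bridge

/-!
Cohomology with support in `T` of a bounded below complex with finite cohomology is finite iff an
ideal with zero locus in `T` kills it.
-/

set_option autoImplicit false
set_option linter.style.haveILetI false
universe u

open CategoryTheory
open LcFinLib

noncomputable section

namespace LcCxLib

variable {A : Type u} [CommRing A]

/-- The quotient of a Baer module by a Baer submodule. -/
theorem baer_quot {M : Type u} [AddCommGroup M] [Module A M] (hM : Module.Baer A M)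
    {N : Submodule A M} (hN : Module.Baer A N) : Module.Baer A (M ⧸ N) := by
  obtain ⟨r, hr⟩ := Module.Baer.extension_property hN N.subtype N.injective_subtype LinearMap.id
  let s : M ⧸ N →ₗ[A] M := N.liftQ (LinearMap.id - N.subtype ∘ₗ r) fun y hy => by
    have : r y = ⟨y, hy⟩ := LinearMap.congr_fun hr ⟨y, hy⟩
    simp [this]
  intro L g
  obtain ⟨g', hg'⟩ := hM L (s ∘ₗ g)
  refine ⟨N.mkQ ∘ₗ g', fun z hz => ?_⟩
  rw [LinearMap.comp_apply, hg' z hz]
  obtain ⟨y, hy⟩ := Submodule.Quotient.mk_surjective _ (g ⟨z, hz⟩)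
  rw [LinearMap.comp_apply, ← hy]
  show Submodule.Quotient.mk (y - (r y : M)) = Submodule.Quotient.mk y
  rw [Submodule.Quotient.eq]
  simp

variable [IsNoetherianRing A] (T : Set (PrimeSpectrum A))

/-- An element multiplied into `Γ_T` by an ideal with zero locus in `T` lies in `Γ_T`. -/
theorem mem_gam_of_smul {M : Type u} [AddCommGroup M] [Module A M] {J : Ideal A}
    (hJ : PrimeSpectrum.zeroLocus (J : Set A) ⊆ T) {m : M} (h : ∀ a ∈ J, a • m ∈ gam T M) :
    m ∈ gam T M := by
  classical
  obtain ⟨G, hG⟩ := (IsNoetherian.noetherian J : Submodule.FG J)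
  choose K hK hKm using fun g : {g // g ∈ G} => h g.1 (hG ▸ Submodule.subset_span g.2)
  refine ⟨(∏ g ∈ G.attach, K g) * J, ?_, fun c hc => ?_⟩
  · rw [PrimeSpectrum.zeroLocus_mul]
    exact Set.union_subset (zeroLocus_prod_subset T _ _ fun g _ => hK g) hJ
  · refine Submodule.mul_induction_on hc (fun b hb a ha => ?_) fun c d hc hd => by
      rw [add_smul, hc, hd, add_zero]
    rw [← hG] at ha
    induction ha using Submodule.span_induction with
    | mem a ha =>
      rw [mul_smul]
      exact hKm ⟨a, ha⟩ b ((Ideal.prod_le_inf.trans (Finset.inf_le (Finset.mem_attach G ⟨a, ha⟩))) hb)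
    | zero => rw [mul_zero, zero_smul]
    | add a a' _ _ h h' => rw [mul_add, add_smul, h, h', add_zero]
    | smul c a _ h => rw [smul_eq_mul, mul_left_comm, mul_smul, h, smul_zero]

/-- A complex of injectives, bounded below, with finite cohomology. -/
structure Good (E : CochainComplex (ModuleCat.{u} A) ℤ) (a : ℤ) : Prop where
  below : ∀ i < a, Subsingleton (E.X i)
  baer : ∀ i, Module.Baer A (E.X i)
  finite : ∀ i, Module.Finite A (Hc E i)

theorem Good.cone {E : CochainComplex (ModuleCat.{u} A) ℤ} {a : ℤ} (h : Good E a) (x : A) :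
    Good (LcCxLib.cone E x) (a - 1) where
  below i hi := by
    haveI := h.below (i + 1) (by omega)
    haveI := h.below i (by omega)
    show Subsingleton (E.X (i + 1) × E.X i)
    infer_instance
  baer i := baer_prod (h.baer _) (h.baer _)
  finite i := haveI := h.finite i; haveI := h.finite (i + 1); finite_Hc_cone x i

variable (E : CochainComplex (ModuleCat.{u} A) ℤ)

/-- The cochains with differential supported in `T`. -/
abbrev preGam (i : ℤ) : Submodule A (E.X i) :=
  (gam T (E.X (i + 1))).comap (E.d i (i + 1)).hom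

/-- The coboundaries up to sections supported in `T`. -/
abbrev bdGam (i : ℤ) : Submodule A (E.X i) :=
  gam T (E.X i) ⊔ LinearMap.range (E.d (i - 1) i).hom

variable {T E}

theorem preGam_step {k i : ℤ} (hk : k + 1 = i) (hbE : ∀ i, Module.Baer A (E.X i))
    (hPk : Module.Baer A (E.X k ⧸ preGam T E k)) {J : Ideal A}
    (hJT : PrimeSpectrum.zeroLocus (J : Set A) ⊆ T)
    (hJ : ∀ a ∈ J, ∀ v ∈ preGam T E i, a • v ∈ bdGam T E i) :
    preGam T E i = bdGam T E i ∧ Module.Baer A (E.X i ⧸ preGam T E i) := by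
  classical
  have hle : bdGam T E i ≤ preGam T E i := by
    refine sup_le (fun v hv => map_mem_gam _ hv) ?_
    rintro _ ⟨w, rfl⟩
    show (E.d i (i + 1)).hom ((E.d (i - 1) i).hom w) ∈ gam T (E.X (i + 1))
    rw [← LinearMap.comp_apply, ← ModuleCat.hom_comp, HomologicalComplex.d_comp_d]
    exact zero_mem _
  obtain rfl : k = i - 1 := by omega
  let Γ := gam T (E.X i)
  let q : E.X (i - 1) →ₗ[A] E.X i ⧸ Γ := Γ.mkQ ∘ₗ (E.d (i - 1) i).hom
  have hker : LinearMap.ker q = preGam T E (i - 1) := by
    ext w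
    rw [LinearMap.mem_ker, LinearMap.comp_apply, Submodule.mkQ_apply, Submodule.Quotient.mk_eq_zero,
      Submodule.mem_comap]
    show (E.d (i - 1) i).hom w ∈ gam T (E.X i) ↔
      (E.d (i - 1) (i - 1 + 1)).hom w ∈ gam T (E.X (i - 1 + 1))
    generalize hm : i - 1 + 1 = m
    obtain rfl : m = i := by omega
    rfl
  have hN : Module.Baer A (LinearMap.range q) :=
    hPk.of_equiv ((Submodule.quotEquivOfEq _ _ hker.symm).trans q.quotKerEquivRange)
  have hrange : LinearMap.range q = (bdGam T E i).map Γ.mkQ := by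
    rw [Submodule.map_sup, show Submodule.map Γ.mkQ Γ = ⊥ by
      exact Submodule.mkQ_map_self Γ, bot_sup_eq, LinearMap.range_comp]
  have heq : preGam T E i = bdGam T E i := by
    refine le_antisymm (fun v hv => ?_) hle
    let g : J →ₗ[A] LinearMap.range q :=
      (Γ.mkQ ∘ₗ LinearMap.toSpanSingleton A (E.X i) v ∘ₗ J.subtype).codRestrict _ fun a => by
        rw [hrange]
        exact ⟨_, hJ a.1 a.2 v hv, rfl⟩
    obtain ⟨g', hg'⟩ := hN J g
    obtain ⟨p, hp⟩ := (g' 1).2
    have hmem : ∀ a ∈ J, a • (v - (E.d (i - 1) i).hom p) ∈ Γ := fun a ha => by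
      have h1 := congrArg Subtype.val (hg' a ha)
      have h2 : g' a = a • g' 1 := by rw [← map_smul, smul_eq_mul, mul_one]
      rw [h2, Submodule.coe_smul, ← hp] at h1
      have h1' : Γ.mkQ (a • (E.d (i - 1) i).hom p) = Γ.mkQ (a • v) := (map_smul Γ.mkQ a _).trans h1
      rw [Submodule.mkQ_apply, Submodule.mkQ_apply, Submodule.Quotient.eq] at h1'
      rw [smul_sub, ← neg_sub]
      exact neg_mem h1'
    have := mem_gam_of_smul T hJT hmem
    rw [show v = (v - (E.d (i - 1) i).hom p) + (E.d (i - 1) i).hom p from (sub_add_cancel _ _).symm]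
    exact add_mem (Submodule.mem_sup_left this) (Submodule.mem_sup_right ⟨p, rfl⟩)
  refine ⟨heq, ?_⟩
  rw [hrange, ← heq] at hN
  exact (baer_quot (baer_quot (hbE i) (baer_gam (hbE i) T)) hN).of_equiv
    (Submodule.quotientQuotientEquivQuotient Γ (preGam T E i) (le_sup_left.trans heq.ge))

/-- When generators of an ideal with zero locus in `T` act null-homotopically, cochains with
differential supported in `T` are coboundaries up to sections supported in `T`. -/
theorem preGam_eq {a : ℤ} (h : Good E a) {N : Set A} (hN : ∀ y ∈ N, Null E y)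
    (hJT : PrimeSpectrum.zeroLocus N ⊆ T) (i : ℤ) : preGam T E i = bdGam T E i := by
  have hJT' : PrimeSpectrum.zeroLocus ((Ideal.span N : Ideal A) : Set A) ⊆ T := by
    rwa [PrimeSpectrum.zeroLocus_span]
  have hJ : ∀ i, ∀ y ∈ Ideal.span N, ∀ v ∈ preGam T E i, y • v ∈ bdGam T E i := by
    intro i y hy v hv
    induction hy using Submodule.span_induction with
    | mem y hy =>
      obtain ⟨H, hH⟩ := hN y hy
      rw [← hH i v]
      exact add_mem (Submodule.mem_sup_right ⟨_, rfl⟩) (Submodule.mem_sup_left (map_mem_gam _ hv))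
    | zero => rw [zero_smul]; exact zero_mem _
    | add y z _ _ h h' => rw [add_smul]; exact add_mem h h'
    | smul c y _ h => rw [smul_eq_mul, mul_smul]; exact Submodule.smul_mem _ c h
  have key : ∀ n : ℕ, ∀ i : ℤ, i < a + n →
      preGam T E i = bdGam T E i ∧ Module.Baer A (E.X i ⧸ preGam T E i) := by
    intro n
    induction n with
    | zero =>
      intro i hi
      haveI := h.below i (by omega)
      exact ⟨Submodule.ext fun v => by rw [Subsingleton.elim v 0]; simp,
        fun L g => ⟨0, fun z hz => Subsingleton.elim _ _⟩⟩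
    | succ n ih =>
      intro i hi
      exact preGam_step (k := i - 1) (by omega) h.baer (ih (i - 1) (by omega)).2 hJT' (hJ i)
  exact (key ((i - a).toNat + 1) i (by omega)).1

/-- Finiteness when the generators act null-homotopically. -/
theorem finite_of_null {a : ℤ} (h : Good E a) {N : Set A} (hN : ∀ y ∈ N, Null E y)
    (hJT : PrimeSpectrum.zeroLocus N ⊆ T) (i : ℤ) : Module.Finite A (HT T E i) := by
  haveI := h.finite i
  haveI : IsNoetherian A (Hc E i) := isNoetherian_of_isNoetherianRing_of_finite A _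
  let f : HT T E i →ₗ[A] Hc E i := Submodule.mapQ _ _ (gam T (cyc E i)).subtype (by
    rintro _ ⟨w, rfl⟩
    exact ⟨w.1, rfl⟩)
  refine Module.Finite.of_injective f ((injective_iff_map_eq_zero f).2 fun z hz => ?_)
  obtain ⟨⟨⟨z, hzc⟩, hzT⟩, rfl⟩ := Submodule.Quotient.mk_surjective _ z
  obtain ⟨w, hw⟩ := (Submodule.Quotient.mk_eq_zero _).1 hz
  have hw' : (E.d (i - 1) i).hom w = z := congrArg Subtype.val hw
  have hzT' : z ∈ gam T (E.X i) := (mem_gam_cyc T E).1 hzT
  have hmem : w ∈ preGam T E (i - 1) := by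
    show (E.d (i - 1) (i - 1 + 1)).hom w ∈ gam T (E.X (i - 1 + 1))
    generalize hm : i - 1 + 1 = m
    obtain rfl : m = i := by omega
    rw [hw']
    exact hzT'
  rw [preGam_eq h hN hJT (i - 1)] at hmem
  obtain ⟨g, hg, r, ⟨p, rfl⟩, hsum⟩ := Submodule.mem_sup.1 hmem
  refine (Submodule.Quotient.mk_eq_zero _).2 ⟨⟨g, hg⟩, Subtype.ext (Subtype.ext ?_)⟩
  show (E.d (i - 1) i).hom g = z
  rw [← hw', ← hsum, map_add, ← LinearMap.comp_apply, ← ModuleCat.hom_comp,
    HomologicalComplex.d_comp_d]
  simp

/-- Killed by an ideal with zero locus in `T` implies finite. -/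
theorem finite_of_killed : ∀ (l : List A) (E : CochainComplex (ModuleCat.{u} A) ℤ) (a : ℤ),
    Good E a → ∀ (N : Set A), (∀ y ∈ N, Null E y) → ∀ n : ℤ,
    (∀ x ∈ l, ∀ i ≤ n, Kill T E i x) → PrimeSpectrum.zeroLocus (N ∪ {x | x ∈ l}) ⊆ T →
    Module.Finite A (HT T E n)
  | [], E, a, h, N, hN, n, _, hT => finite_of_null h hN (by simpa using hT) n
  | x :: l, E, a, h, N, hN, n, hl, hT => by
    haveI : Module.Finite A (HT T (LcCxLib.cone E x) (n - 1)) := by
      refine finite_of_killed (l.map fun y => y * y) (LcCxLib.cone E x) (a - 1) (h.cone x)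
        (insert x N) ?_ (n - 1) ?_ ?_
      · rintro y (rfl | hy)
        · exact null_cone_self y
        · exact null_cone x (hN y hy)
      · intro y hy i hi
        obtain ⟨z, hz, rfl⟩ := List.mem_map.1 hy
        exact kill_cone T (hl z (List.mem_cons_of_mem _ hz) i (by omega))
          (hl z (List.mem_cons_of_mem _ hz) (i + 1) (by omega))
      · intro r hr
        refine hT fun y hy => ?_
        rcases hy with hy | hy
        · exact hr (Or.inl (Or.inr hy))
        · rcases List.mem_cons.1 hy with rfl | hy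
          · exact hr (Or.inl (Or.inl rfl))
          · exact r.isPrime.mul_mem_iff_mem_or_mem.1
              (hr (Or.inr (List.mem_map.2 ⟨y, hy, rfl⟩))) |>.elim id id
    exact finite_of_cone T (hl x List.mem_cons_self n le_rfl)
termination_by l => l.length
decreasing_by simp

/-- Finiteness in degrees `≤ n` is killing by one ideal. -/
theorem finite_iff_killed {a : ℤ} (h : Good E a) (n : ℤ) :
    (∀ i ≤ n, Module.Finite A (HT T E i)) ↔
      ∃ J : Ideal A, PrimeSpectrum.zeroLocus (J : Set A) ⊆ T ∧
        ∀ i ≤ n, ∀ x ∈ J, Kill T E i x := by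
  constructor
  · intro hfin
    have hex : ∀ i : {i // i ∈ Finset.Icc a n}, ∃ J : Ideal A,
        PrimeSpectrum.zeroLocus (J : Set A) ⊆ T ∧ ∀ x ∈ J, Kill T E i.1 x := fun i =>
      haveI := hfin i.1 (Finset.mem_Icc.1 i.2).2
      exists_ideal_of_finite T E i.1
    choose J hJ hJk using hex
    refine ⟨∏ i ∈ (Finset.Icc a n).attach, J i, zeroLocus_prod_subset T _ _ fun i _ => hJ i,
      fun i hi x hx => ?_⟩
    rcases lt_or_ge i a with hia | hia
    · exact kill_of_subsingleton T E (h.below i hia) x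
    · exact hJk ⟨i, Finset.mem_Icc.2 ⟨hia, hi⟩⟩ x
        ((Ideal.prod_le_inf.trans (Finset.inf_le (Finset.mem_attach _ ⟨i, _⟩))) hx)
  · rintro ⟨J, hJ, hk⟩ i hi
    obtain ⟨G, hG⟩ := (IsNoetherian.noetherian J : Submodule.FG J)
    refine finite_of_killed G.toList E a h ∅ (by simp) i (fun x hx j hj =>
      hk j (hj.trans hi) x (hG ▸ Submodule.subset_span (Finset.mem_toList.1 hx))) ?_
    intro r hr
    refine hJ ?_
    have : Submodule.span A (G : Set A) ≤ r.asIdeal :=
      Submodule.span_le.2 fun y hy => hr (Or.inr (Finset.mem_toList.2 hy))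
    rw [hG] at this
    exact this

section Model

open HomologicalComplex

attribute [local instance] HasDerivedCategory.standard

/-- The model of a bounded below object with finite cohomology is good. -/
theorem exists_good_model (K : Dual.D A) (a : ℤ)
    (hKa : ∀ i : ℤ, i < a → Subsingleton (Dual.HD A K i)) (hK : ∀ i : ℤ, Module.Finite A (Dual.HD A K i)) :
    ∃ (E : CochainComplex (ModuleCat.{u} A) ℤ), Good E a ∧ (∀ n, Injective (E.X n)) ∧
      E.IsStrictlyGE a ∧ E.IsKInjective ∧ Nonempty (DerivedCategory.Q.obj E ≅ K) := by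
  obtain ⟨E, hge, hinj, hK', ⟨e⟩⟩ := exists_model K a hKa
  haveI := hge
  refine ⟨E, ⟨fun i hi => subsingleton_X hi, baer_X hinj, fun i => ?_⟩, hinj, hge, hK', ⟨e⟩⟩
  obtain ⟨e₁⟩ := nonempty_Hc_equiv E i
  let e₂ : E.homology i ≅ (DerivedCategory.homologyFunctor (ModuleCat.{u} A) i).obj K :=
    ((DerivedCategory.homologyFunctorFactors (ModuleCat.{u} A) i).app E).symm ≪≫
      (DerivedCategory.homologyFunctor _ i).mapIso e
  haveI := hK i
  exact Module.Finite.equiv (e₂.toLinearEquiv.symm.trans e₁)

end Model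

end LcCxLib

end
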