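import Groth.Agent.LcFinLib.Iterate
import Groth.Agent.LcCxLib.Finite

/-!
Killing at the points of `T`, and passing to smaller supports, for complexes.
-/

set_option autoImplicit false
set_option linter.style.haveILetI false
set_option maxHeartbeats 400000
universe u

open CategoryTheory
open LcFinLib

noncomputable section

namespace LcCxLib

variable {A : Type u} [CommRing A]

/-- `a` kills, locally at `q`, the sections supported at `q` of the target of `f` modulo images. -/
def LocKillMap {K Z₀ : Type u} [AddCommGroup K] [Module A K] [AddCommGroup Z₀] [Module A Z₀]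
    (q : PrimeSpectrum A) (f : K →ₗ[A] Z₀) (a : A) : Prop :=
  ∀ z ∈ gam (PrimeSpectrum.zeroLocus (q.asIdeal : Set A)) Z₀, ∃ s ∉ q.asIdeal,
    ∃ w ∈ gam (PrimeSpectrum.zeroLocus (q.asIdeal : Set A)) K, f w = s • a • z

variable [IsNoetherianRing A] {T₀ : Set (PrimeSpectrum A)}

/-- One stratum: after multiplying by `a` a cycle with support in `T₀` is, up to a boundary,
supported in the points of `T₀` outside the antichain `S`. -/
theorem exists_stage_map (hT₀ : StableUnderSpecialization T₀) (S : Set (PrimeSpectrum A))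
    (hST : S ⊆ T₀) (hS : ∀ q ∈ S, ∀ r ∈ T₀, r ≤ q → r = q)
    (a : A) {K Z₀ : Type u} [AddCommGroup K] [Module A K] [AddCommGroup Z₀] [Module A Z₀]
    (hK : Module.Baer A K) (f : K →ₗ[A] Z₀) (hloc : ∀ q ∈ S, LocKillMap q f a)
    (z : Z₀) (hz : z ∈ gam T₀ Z₀) :
    ∃ w ∈ gam T₀ K, a • z - f w ∈ gam (T₀ \ S) Z₀ := by
  classical
  let Z := LinearMap.ker (LinearMap.toSpanSingleton A Z₀ z)
  have hsupp : ∀ r : PrimeSpectrum A, Z ≤ r.asIdeal → r ∈ T₀ := fun r hr => by
    by_contra h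
    obtain ⟨s, hs, hsz⟩ := mem_gam_iff.1 hz r h
    exact hs (hr hsz)
  have hfin : {q : PrimeSpectrum A | q ∈ S ∧ Z ≤ q.asIdeal}.Finite := by
    refine Set.Finite.subset ((Ideal.finite_minimalPrimes_of_isNoetherianRing A Z).preimage
      (f := PrimeSpectrum.asIdeal) fun p _ q _ h => PrimeSpectrum.ext h) ?_
    rintro q ⟨hqS, hq⟩
    refine ⟨⟨q.isPrime, hq⟩, fun r hr hrq => ?_⟩
    exact le_of_eq (congrArg PrimeSpectrum.asIdeal
      (hS q hqS ⟨r, hr.1⟩ (hsupp ⟨r, hr.1⟩ hr.2) hrq)).symm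
  have hpt : ∀ q ∈ S, ∃ w ∈ gam (PrimeSpectrum.zeroLocus (q.asIdeal : Set A)) K,
      ∃ C ∉ q.asIdeal, C • (a • z - f w) = 0 := by
    intro q hq
    obtain ⟨c, hc, hcz⟩ := exists_scale q (hS q hq) Z hsupp z (fun x hx => hx)
    obtain ⟨s, hs, w, hw, hwz⟩ := hloc q hq _ hcz
    obtain ⟨w', hw', e, he, hew⟩ := exists_div hK q hw (s * c)
      (fun h => (q.isPrime.mem_or_mem h).elim hs hc)
    refine ⟨w', hw', e * (s * c),
      fun h => (q.isPrime.mem_or_mem h).elim he (fun h => (q.isPrime.mem_or_mem h).elim hs hc), ?_⟩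
    rw [smul_sub, sub_eq_zero] at hew
    have h1 : (e * (s * c)) • f w' = e • s • a • c • z := by
      rw [← map_smul, mul_smul, hew, map_smul, hwz]
    rw [smul_sub, h1, sub_eq_zero]
    simp only [smul_smul]
    congr 1
    ring
  choose w hw C hC hCz using hpt
  let F := hfin.toFinset
  have hF : ∀ q ∈ F, q ∈ S := fun q hq => ((Set.Finite.mem_toFinset _).1 hq).1
  refine ⟨∑ q ∈ F.attach, w q.1 (hF q.1 q.2), sum_mem fun q _ =>
    gam_mono (zeroLocus_subset hT₀ (hST (hF q.1 q.2))) (hw q.1 _), ?_⟩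
  rw [mem_gam_iff]
  intro r hr
  have hout : ∀ q : {q // q ∈ F}, q.1 ≠ r → (r ∈ S ∨ r ∉ T₀) →
      ∃ s ∉ r.asIdeal, s • f (w q.1 (hF q.1 q.2)) = 0 := by
    intro q hne hr'
    refine mem_gam_iff.1 (map_mem_gam _ (hw q.1 _)) r fun h => ?_
    rcases hr' with hr' | hr'
    · exact hne (hS r hr' q.1 (hST (hF q.1 q.2)) h)
    · exact hr' (zeroLocus_subset hT₀ (hST (hF q.1 q.2)) h)
  by_cases hrT : r ∈ T₀
  · have hrS : r ∈ S := by_contra fun h => hr ⟨hrT, h⟩
    by_cases hrF : r ∈ F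
    · have hothers : ∀ q : {q // q ∈ F}, ∃ s ∉ r.asIdeal,
          q.1 ≠ r → s • f (w q.1 (hF q.1 q.2)) = 0 := fun q => by
        by_cases h : q.1 = r
        · exact ⟨1, fun h1 => r.isPrime.ne_top ((Ideal.eq_top_iff_one _).2 h1), fun h' => absurd h h'⟩
        · obtain ⟨s, hs, hs'⟩ := hout q h (Or.inl hrS)
          exact ⟨s, hs, fun _ => hs'⟩
      choose s hs hsw using hothers
      refine ⟨(∏ q ∈ F.attach, s q) * C r hrS, fun h => ?_, ?_⟩
      · rcases r.isPrime.mem_or_mem h with h | h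
        · obtain ⟨q, -, hq⟩ := r.isPrime.prod_mem_iff.1 h
          exact hs q hq
        · exact hC r hrS h
      · rw [map_sum, ← Finset.add_sum_erase _ _ (Finset.mem_attach F ⟨r, hrF⟩), ← sub_sub, smul_sub,
          mul_smul, hCz r hrS, smul_zero, zero_sub, neg_eq_zero, Finset.smul_sum]
        refine Finset.sum_eq_zero fun q hq => ?_
        obtain ⟨hne, -⟩ := Finset.mem_erase.1 hq
        obtain ⟨d, hd⟩ := Finset.dvd_prod_of_mem s (Finset.mem_attach F q)
        rw [hd, show s q * d * C r hrS = d * C r hrS * s q by ring, mul_smul,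
          hsw q fun h => hne (Subtype.ext h), smul_zero]
    · obtain ⟨s, hs, hsr⟩ := Set.not_subset.1 fun h : (Z : Set A) ⊆ r.asIdeal =>
        hrF ((Set.Finite.mem_toFinset _).2 ⟨hrS, h⟩)
      have hothers : ∀ q : {q // q ∈ F}, ∃ t ∉ r.asIdeal,
          t • f (w q.1 (hF q.1 q.2)) = 0 := fun q =>
        hout q (fun h => hrF (h ▸ q.2)) (Or.inl hrS)
      choose t ht htw using hothers
      exact kill_sub f a z _ r hsr hs F.attach (fun q => w q.1 (hF q.1 q.2)) t ht htw
  · obtain ⟨s, hs, hsz⟩ := mem_gam_iff.1 hz r hrT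
    have hothers : ∀ q : {q // q ∈ F}, ∃ t ∉ r.asIdeal,
        t • f (w q.1 (hF q.1 q.2)) = 0 := fun q =>
      hout q (fun h => hrT (h ▸ hST (hF q.1 q.2))) (Or.inr hrT)
    choose t ht htw using hothers
    exact kill_sub f a z s r hs hsz F.attach (fun q => w q.1 (hF q.1 q.2)) t ht htw

variable {E : CochainComplex (ModuleCat.{u} A) ℤ} {T : Set (PrimeSpectrum A)}

/-- `a` kills the cohomology supported at `q` locally at `q`. -/
def LocKill (E : CochainComplex (ModuleCat.{u} A) ℤ) (q : PrimeSpectrum A) (i : ℤ) (a : A) : Prop :=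
  LocKillMap q (piE E i) a

/-- Killing at every point of `T` gives killing in `Γ_T`. -/
theorem kill_pow_of_locKill (hb : ∀ i, Module.Baer A (E.X i)) (hT : StableUnderSpecialization T)
    (deg : PrimeSpectrum A → ℤ) (hdeg : StrictMono deg) (l b : ℤ)
    (hlb : ∀ q, l ≤ deg q ∧ deg q ≤ b) (a : A) (i : ℤ) (hloc : ∀ q ∈ T, LocKill E q i a) :
    Kill T E i (a ^ (b - l + 1).toNat) := by
  let Tr : ℤ → Set (PrimeSpectrum A) := fun r => {q | q ∈ T ∧ r ≤ deg q}
  have hTr : ∀ r, StableUnderSpecialization (Tr r) := fun r x y hxy hx =>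
    ⟨hT hxy hx.1, hx.2.trans (hdeg.monotone ((PrimeSpectrum.le_iff_specializes x y).2 hxy))⟩
  suffices H : ∀ (N : ℕ) (r : ℤ), b < r + N → ∀ z ∈ gam (Tr r) (cyc E i),
      ∃ w ∈ gam T (E.X (i - 1)), piE E i w = a ^ N • z by
    intro z hz
    refine H _ l ?_ z (gam_mono (fun q hq => show q ∈ T ∧ l ≤ deg q from ⟨hq, (hlb q).1⟩) hz)
    omega
  intro N
  induction N with
  | zero =>
    intro r hr z hz
    rw [eq_zero_of_mem_gam_of_eq_empty (M := cyc E i)
      (fun q hq => absurd (hlb q).2 (by have := hq.2; omega)) hz, smul_zero]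
    exact ⟨0, zero_mem _, map_zero _⟩
  | succ N ih =>
    intro r hr z hz
    let S : Set (PrimeSpectrum A) := {q | q ∈ T ∧ deg q = r}
    have hS : ∀ q ∈ S, ∀ g ∈ Tr r, g ≤ q → g = q := fun q hq g hg hgq => by
      rcases eq_or_lt_of_le hgq with h | h
      · exact h
      · have := hdeg h
        have := hg.2
        have := hq.2
        omega
    have hsub : Tr r \ S ⊆ Tr (r + 1) := fun q ⟨hq, hqS⟩ => ⟨hq.1, by
      have h1 := hq.2
      have h2 : deg q ≠ r := fun h => hqS ⟨hq.1, h⟩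
      omega⟩
    obtain ⟨w, hw, hzw⟩ := exists_stage_map (hTr r) S (fun q hq => ⟨hq.1, hq.2.ge⟩) hS a
      (hb (i - 1)) (piE E i) (fun q hq => hloc q hq.1) z hz
    obtain ⟨w', hw', hw'z⟩ := ih (r + 1) (by omega) _ (gam_mono hsub hzw)
    refine ⟨a ^ N • w + w', add_mem (Submodule.smul_mem _ _ (gam_mono (fun q hq => hq.1) hw)) hw', ?_⟩
    rw [map_add, map_smul, hw'z, smul_sub, smul_smul, ← pow_succ]
    abel

omit [IsNoetherianRing A] in
/-- The differential into the cycles in degree `i`, from degree `k`. -/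
def piK (E : CochainComplex (ModuleCat.{u} A) ℤ) (T : Set (PrimeSpectrum A)) (k i : ℤ) :
    gam T (E.X k) →ₗ[A] gam T (cyc E i) :=
  (((E.d k i).hom).codRestrict (cyc E i) fun w => by
    show (E.d i (i + 1)).hom ((E.d k i).hom w) = 0
    rw [← LinearMap.comp_apply, ← ModuleCat.hom_comp, HomologicalComplex.d_comp_d]
    rfl).restrict fun _ hw => map_mem_gam _ hw

/-- A linear choice of boundaries. -/
theorem exists_theta {a₀ : ℤ} (hb : ∀ i, Module.Baer A (E.X i))
    (hbelow : ∀ i < a₀, Subsingleton (E.X i)) (c : A) :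
    ∀ (n : ℕ) (k i : ℤ), k + 1 = i → k < a₀ + n → (∀ j ≤ i, Kill T E j c) →
      ∃ θ : gam T (cyc E i) →ₗ[A] gam T (E.X k),
        ∀ z, piK E T k i (θ z) = c ^ (n + 1) • z := by
  intro n
  induction n with
  | zero =>
    intro k i hki hk hkill
    haveI := hbelow k (by omega)
    refine ⟨0, fun z => ?_⟩
    obtain ⟨w, -, hwz⟩ := (hkill i le_rfl).exists_of_eq T E hki z.1.1 z.1.2 ((mem_gam_cyc T E).1 z.2)
    rw [Subsingleton.elim w 0, map_zero] at hwz
    refine Subtype.ext (Subtype.ext ?_)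
    simp only [LinearMap.zero_apply, map_zero, zero_add, pow_one]
    exact hwz
  | succ n ih =>
    intro k i hki hk hkill
    obtain ⟨θ, hθ⟩ := ih (k - 1) k (by omega) (by omega) fun j hj => hkill j (by omega)
    let ι : gam T (cyc E k) →ₗ[A] gam T (E.X k) :=
      (cyc E k).subtype.restrict fun _ h => map_mem_gam _ h
    have hι : Function.Injective ι := fun x y h => Subtype.ext (Subtype.ext congr(($h : E.X k)))
    obtain ⟨ψ, hψ⟩ := Module.Baer.extension_property (baer_gam (hb (k - 1)) T) _ hι θ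
    let u : gam T (E.X k) →ₗ[A] gam T (E.X k) :=
      c ^ (n + 1) • LinearMap.id - ι ∘ₗ piK E T (k - 1) k ∘ₗ ψ
    obtain ⟨θ', hθ'⟩ := exists_lift_smul (piK E T k i) u (c ^ (n + 1)) c
      (fun x hx => by
        have hxc : (x : E.X k) ∈ cyc E k := by
          obtain rfl := hki
          exact congrArg (fun y : gam T (cyc E (k + 1)) => (y.1.1 : E.X (k + 1))) hx
        let z : gam T (cyc E k) := ⟨⟨x.1, hxc⟩, (mem_gam_cyc T E).2 x.2⟩
        have hx' : ι z = x := rfl
        have h1 : ψ (ι z) = θ z := LinearMap.congr_fun hψ z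
        rw [← hx']
        simp only [u, LinearMap.mem_ker, LinearMap.sub_apply, LinearMap.smul_apply, LinearMap.id_apply,
          LinearMap.comp_apply, h1, hθ, map_smul, sub_self])
      (fun x => by
        have hzero : ∀ z : gam T (cyc E k), piK E T k i (ι z) = 0 := fun z => by
          refine Subtype.ext (Subtype.ext ?_)
          show (E.d k i).hom (z.1 : E.X k) = 0
          obtain rfl := hki
          exact z.1.2
        simp only [u, LinearMap.sub_apply, LinearMap.smul_apply, LinearMap.id_apply,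
          LinearMap.comp_apply, map_sub, map_smul, hzero, sub_zero])
      (fun y => by
        obtain ⟨w, hw, hwy⟩ := (hkill i le_rfl).exists_of_eq T E hki y.1.1 y.1.2
          ((mem_gam_cyc T E).1 y.2)
        exact ⟨⟨w, hw⟩, Subtype.ext (Subtype.ext hwy)⟩)
    exact ⟨θ', fun z => by rw [hθ', ← pow_succ]⟩

/-- Killing passes to smaller supports. -/
theorem kill_of_subset {T' : Set (PrimeSpectrum A)} (hTT' : T' ⊆ T) {a₀ : ℤ}
    (hb : ∀ i, Module.Baer A (E.X i)) (hbelow : ∀ i < a₀, Subsingleton (E.X i)) (c : A) (i : ℤ)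
    (hk : ∀ j ≤ i, Kill T E j c) : Kill T' E i (c ^ ((i - a₀).toNat + 1)) := by
  intro z hz
  obtain ⟨θ, hθ⟩ := exists_theta (T := T) hb hbelow c (i - a₀).toNat (i - 1) i (by omega) (by omega) hk
  let zT : gam T (cyc E i) := ⟨z, gam_mono hTT' hz⟩
  have hzT : zT ∈ gam T' (gam T (cyc E i)) :=
    mem_gam_of_injective (gam T (cyc E i)).subtype Subtype.val_injective hz
  exact ⟨(θ zT).1, map_mem_gam ((gam T (E.X (i - 1))).subtype ∘ₗ θ) hzT,
    Subtype.ext (congrArg (fun y : gam T (cyc E i) => (y.1.1 : E.X i)) (hθ zT))⟩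

end LcCxLib

end
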