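import Groth.Agent.LcCxLib.Iterate
import Groth.Agent.DualCxLib.LocUnit

/-!
Killing locally at a prime is killing for the localized complex.
-/

set_option autoImplicit false
set_option linter.style.haveILetI false
set_option linter.unusedSectionVars false
set_option maxHeartbeats 400000

universe u

open CategoryTheory
open LcFinLib
open Groth.Agent Groth.Agent.DualCxLib
open DTen

noncomputable section

namespace LcCxLib

variable {A : Type u} [CommRing A] [IsNoetherianRing A] (q : PrimeSpectrum A)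
  (E : CochainComplex (ModuleCat.{u} A) ℤ)

local notation "B" => Localization.AtPrime q.asIdeal
local notation "φ" => algebraMap A (Localization.AtPrime q.asIdeal)

/-- The localized complex. -/
abbrev locCx : CochainComplex (ModuleCat.{u} (Localization.AtPrime q.asIdeal)) ℤ :=
  ((ModuleCat.extendScalars.{u, u, u} φ).mapHomologicalComplex (ComplexShape.up ℤ)).obj E

/-- The localization map in degree `i`. -/
def eta (i : ℤ) : E.X i ⟶ (ModuleCat.restrictScalars.{u} φ).obj ((locCx q E).X i) :=
  (ModuleCat.extendRestrictScalarsAdj.{u, u, u} φ).unit.app (E.X i)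

instance isLocalizedModule_eta (i : ℤ) : IsLocalizedModule q.asIdeal.primeCompl (eta q E i).hom :=
  isLocalizedModule_unit q.asIdeal.primeCompl (E.X i)

/-- The localization map as a function. -/
def et (i : ℤ) (x : E.X i) : (locCx q E).X i := (eta q E i).hom x

theorem et_smul (i : ℤ) (r : A) (x : E.X i) : et q E i (r • x) = φ r • et q E i x :=
  map_smul (eta q E i).hom r x

theorem et_zero (i : ℤ) : et q E i 0 = 0 := map_zero (eta q E i).hom

theorem et_d (i j : ℤ) (x : E.X i) :
    et q E j ((E.d i j).hom x) = ((locCx q E).d i j).hom (et q E i x) :=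
  congr($((ModuleCat.extendRestrictScalarsAdj.{u, u, u} φ).unit.naturality (E.d i j)).hom x)

theorem exists_eq_et (i : ℤ) (y : (locCx q E).X i) :
    ∃ (t : A) (x : E.X i), t ∉ q.asIdeal ∧ φ t • y = et q E i x := by
  obtain ⟨⟨x, t⟩, h⟩ := IsLocalizedModule.surj q.asIdeal.primeCompl (eta q E i).hom y
  exact ⟨t, x, t.2, h⟩

theorem exists_smul_eq {i : ℤ} {x y : E.X i} (h : et q E i x = et q E i y) :
    ∃ s ∉ q.asIdeal, s • x = s • y := by
  obtain ⟨s, hs⟩ := (IsLocalizedModule.eq_iff_exists q.asIdeal.primeCompl (eta q E i).hom).1 h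
  exact ⟨s, s.2, hs⟩

omit [IsNoetherianRing A] in
theorem maximalIdeal_pow_eq (k : ℕ) :
    IsLocalRing.maximalIdeal B ^ k = (q.asIdeal ^ k).map φ := by
  rw [Ideal.map_pow, Localization.AtPrime.map_eq_maximalIdeal]

theorem et_mem_torsion {i : ℤ} {x : E.X i} (hx : x ∈ DRing.torsionSub q.asIdeal (E.X i)) :
    et q E i x ∈ DRing.torsionSub (IsLocalRing.maximalIdeal B) ((locCx q E).X i) := by
  obtain ⟨k, hk⟩ := hx
  refine ⟨k, fun b hb => ?_⟩
  rw [maximalIdeal_pow_eq] at hb
  induction hb using Submodule.span_induction with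
  | mem b hb =>
    obtain ⟨a, ha, rfl⟩ := hb
    rw [← et_smul, hk a ha, et_zero]
  | zero => exact zero_smul B (et q E i x)
  | add b c _ _ h h' => rw [add_smul, h, h', add_zero]
  | smul r b _ h => rw [smul_eq_mul, mul_smul, h, smul_zero]

theorem exists_smul_mem_torsion {i : ℤ} {x : E.X i}
    (hx : et q E i x ∈ DRing.torsionSub (IsLocalRing.maximalIdeal B) ((locCx q E).X i)) :
    ∃ s ∉ q.asIdeal, s • x ∈ DRing.torsionSub q.asIdeal (E.X i) := by
  classical
  obtain ⟨k, hk⟩ := hx
  obtain ⟨G, hG⟩ := (IsNoetherian.noetherian (q.asIdeal ^ k) : Submodule.FG _)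
  have hgen : ∀ g : {g // g ∈ G}, ∃ s ∉ q.asIdeal, s • g.1 • x = 0 := fun g => by
    have hg : φ g.1 • et q E i x = 0 := hk _ (by
      rw [maximalIdeal_pow_eq]
      exact Ideal.mem_map_of_mem _ (hG ▸ Submodule.subset_span g.2))
    obtain ⟨s, hs, hsx⟩ := exists_smul_eq q E ((et_smul q E i g.1 x).trans (hg.trans (et_zero q E i).symm))
    exact ⟨s, hs, hsx.trans (smul_zero s)⟩
  choose s hs hsx using hgen
  refine ⟨∏ g ∈ G.attach, s g, fun h => ?_, k, fun a ha => ?_⟩
  · obtain ⟨g, -, hg⟩ := q.isPrime.prod_mem_iff.1 h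
    exact hs g hg
  · rw [← hG] at ha
    induction ha using Submodule.span_induction with
    | mem a ha =>
      obtain ⟨c, hc⟩ := Finset.dvd_prod_of_mem s (Finset.mem_attach G ⟨a, ha⟩)
      rw [hc, smul_comm, mul_comm, mul_smul, hsx ⟨a, ha⟩, smul_zero]
    | zero => rw [zero_smul]
    | add a a' _ _ h h' => rw [add_smul, h, h', add_zero]
    | smul r a _ h => rw [smul_eq_mul, mul_smul, h, smul_zero]

theorem mem_gam_cyc_iff {C : Type u} [CommRing C] [IsNoetherianRing C] (I : Ideal C)
    (F : CochainComplex (ModuleCat.{u} C) ℤ) {i : ℤ} (z : cyc F i) :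
    z ∈ gam (PrimeSpectrum.zeroLocus (I : Set C)) (cyc F i) ↔ (z : F.X i) ∈ DRing.torsionSub I (F.X i) := by
  rw [mem_gam_cyc, gam_zeroLocus]

theorem notMem_mul {a b : A} (ha : a ∉ q.asIdeal) (hb : b ∉ q.asIdeal) : a * b ∉ q.asIdeal :=
  fun h => (q.isPrime.mem_or_mem h).elim ha hb

/-- Locally killed cohomology with support at `q` is killed cohomology of the localization. -/
theorem locKill_iff_kill (i : ℤ) (c : A) :
    LocKill E q i c ↔
      Kill (PrimeSpectrum.zeroLocus (IsLocalRing.maximalIdeal B : Set B)) (locCx q E) i (φ c) := by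
  haveI : IsNoetherianRing B := IsLocalization.isNoetherianRing q.asIdeal.primeCompl _ inferInstance
  constructor
  · intro h z hz
    rw [mem_gam_cyc_iff] at hz
    obtain ⟨t, x, ht, hx⟩ := exists_eq_et q E i z.1
    have hdx : et q E (i + 1) ((E.d i (i + 1)).hom x) = et q E (i + 1) 0 := by
      rw [et_d, ← hx, map_smul, show ((locCx q E).d i (i + 1)).hom z.1 = 0 from z.2, smul_zero, et_zero]
    obtain ⟨u, hu, hux⟩ := exists_smul_eq q E hdx
    rw [smul_zero] at hux
    have hx₁ : et q E i (u • x) = φ (u * t) • z.1 := by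
      rw [et_smul, ← hx, smul_smul, ← map_mul]
    obtain ⟨v, hv, hvx⟩ := exists_smul_mem_torsion q E
      (x := u • x) (by rw [hx₁]; exact Submodule.smul_mem _ _ hz)
    let z₂ : cyc E i := ⟨v • u • x, by
      show (E.d i (i + 1)).hom (v • u • x) = 0
      rw [map_smul, map_smul, hux, smul_zero]⟩
    obtain ⟨s, hs, w, hw, hwz⟩ := h z₂ ((mem_gam_cyc_iff _ _ z₂).2 hvx)
    rw [gam_zeroLocus] at hw
    let e : A := s * (v * (u * t))
    obtain ⟨e', he'⟩ := isUnit_iff_exists_inv'.1 (IsLocalization.map_units B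
      (⟨e, notMem_mul q hs (notMem_mul q hv (notMem_mul q hu ht))⟩ : q.asIdeal.primeCompl))
    refine ⟨e' • et q E (i - 1) w, ?_, Subtype.ext ?_⟩
    · rw [gam_zeroLocus]
      exact Submodule.smul_mem _ _ (et_mem_torsion q E hw)
    · show ((locCx q E).d (i - 1) i).hom (e' • et q E (i - 1) w) = φ c • z.1
      have h1 : (E.d (i - 1) i).hom w = s • c • v • u • x := congrArg Subtype.val hwz
      rw [map_smul, ← et_d, h1, et_smul, et_smul, et_smul, hx₁, smul_smul, smul_smul, smul_smul,
        smul_smul]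
      congr 1
      calc e' * φ s * φ c * φ v * φ (u * t) = (e' * φ e) * φ c := by
            simp only [e, map_mul]; ring
        _ = φ c := by rw [he', one_mul]
  · intro h z hz
    rw [mem_gam_cyc_iff] at hz
    let z' : cyc (locCx q E) i := ⟨et q E i z.1, by
      show ((locCx q E).d i (i + 1)).hom (et q E i z.1) = 0
      rw [← et_d, show (E.d i (i + 1)).hom z.1 = 0 from z.2, et_zero]⟩
    obtain ⟨w', hw', hwz⟩ := h z' ((mem_gam_cyc_iff _ _ z').2 (et_mem_torsion q E hz))
    rw [gam_zeroLocus] at hw'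
    obtain ⟨t, w₀, ht, hw₀⟩ := exists_eq_et q E (i - 1) w'
    obtain ⟨u, hu, huw⟩ := exists_smul_mem_torsion q E (x := w₀)
      (by rw [← hw₀]; exact Submodule.smul_mem _ _ hw')
    have h1 : ((locCx q E).d (i - 1) i).hom w' = φ c • et q E i z.1 := congrArg Subtype.val hwz
    have h2 : et q E i ((E.d (i - 1) i).hom (u • w₀)) = et q E i ((u * t * c) • z.1) := by
      rw [map_smul, et_smul, et_d, ← hw₀, map_smul, h1, et_smul, smul_smul, smul_smul, map_mul, map_mul]
    obtain ⟨e, he, hew⟩ := exists_smul_eq q E h2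
    refine ⟨e * (u * t), notMem_mul q he (notMem_mul q hu ht), e • u • w₀, ?_, Subtype.ext ?_⟩
    · rw [gam_zeroLocus]
      exact Submodule.smul_mem _ _ huw
    · show (E.d (i - 1) i).hom (e • u • w₀) = (e * (u * t)) • c • z.1
      rw [map_smul, hew, smul_smul, smul_smul]
      congr 1
      ring

end LcCxLib

end
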