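import Groth.Agent.LcCxLib.Trunc
import Groth.Agent.LcCxLib.LocModel
import Groth.Agent.LcCxLib.DualityCx
import Groth.Agent.LcFinLib.DualKill

/-!
Local duality at a prime, for complexes.
-/

set_option autoImplicit false
set_option linter.style.haveILetI false
set_option linter.unusedSectionVars false
set_option maxHeartbeats 800000

universe u

open CategoryTheory CategoryTheory.Limits
open Groth.Agent
open DTenLib.Point (hH sg)
open Groth.Agent.DualCxLib
open DTen

attribute [local instance] HasDerivedCategory.standard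

noncomputable section

namespace LcCxLib

theorem nonempty_iso_of_isUniv {A S : Type u} [CommRing A] [CommRing S] {φ : A →+* S} {X : Dual.D A}
    {Z Z' : Dual.D S} {η : X ⟶ (DRing.restrictD φ).obj Z} {η' : X ⟶ (DRing.restrictD φ).obj Z'}
    (h : IsUniv φ η) (h' : IsUniv φ η') : Nonempty (Z ≅ Z') := by
  obtain ⟨f, hf⟩ := (h Z').2 η'
  obtain ⟨g, hg⟩ := (h' Z).2 η
  refine ⟨⟨f, g, (h Z).1 ?_, (h' Z').1 ?_⟩⟩
  · show η ≫ (DRing.restrictD φ).map (f ≫ g) = η ≫ (DRing.restrictD φ).map (𝟙 Z)
    rw [Functor.map_comp, CategoryTheory.Functor.map_id, Category.comp_id]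
    exact (Category.assoc _ _ _).symm.trans ((congrArg (· ≫ _) hf).trans hg)
  · show η' ≫ (DRing.restrictD φ).map (g ≫ f) = η' ≫ (DRing.restrictD φ).map (𝟙 Z')
    rw [Functor.map_comp, CategoryTheory.Functor.map_id, Category.comp_id]
    exact (Category.assoc _ _ _).symm.trans ((congrArg (· ≫ _) hg).trans hf)

variable {A : Type u} [CommRing A] [IsNoetherianRing A] {ω : Dual.D A} (q : PrimeSpectrum A)
  (hω : Dual.IsDualizing A ω)
  [DRing.HasLBaseChange (algebraMap A (Localization.AtPrime q.asIdeal))]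
  (K : Dual.D A) (a : ℤ) (hKa : ∀ i : ℤ, i < a → Subsingleton (Dual.HD A K i))
  (hK : ∀ i : ℤ, Module.Finite A (Dual.HD A K i))

local notation "B" => Localization.AtPrime q.asIdeal
local notation "φ" => algebraMap A (Localization.AtPrime q.asIdeal)

/-- The localized injective model. -/
theorem exists_loc_model {E : CochainComplex (ModuleCat.{u} A) ℤ} [E.IsStrictlyGE a]
    (hEinj : ∀ n, Injective (E.X n)) (eE : DerivedCategory.Q.obj E ≅ K) :
    (locCx q E).IsKInjective ∧
      Nonempty (DerivedCategory.Q.obj (locCx q E) ≅ (DRing.LBaseChange φ).obj K) := by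
  haveI : IsNoetherianRing B := IsLocalization.isNoetherianRing q.asIdeal.primeCompl _ inferInstance
  haveI : (locCx q E).IsStrictlyGE a := (CochainComplex.isStrictlyGE_iff _ a).2 fun i hi =>
    (ModuleCat.extendScalars.{u, u, u} φ).map_isZero (E.isZero_of_isStrictlyGE a i hi)
  have hinj : ∀ n, Injective ((locCx q E).X n) := fun n => by
    haveI : Module.Injective A (E.X n) :=
      Module.injective_module_of_injective_object A (E.X n) (inj := hEinj n)
    letI : Module A ((locCx q E).X n) := Module.compHom _ φ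
    haveI : IsScalarTower A B ((locCx q E).X n) :=
      IsScalarTower.of_algebraMap_smul fun _ _ => rfl
    let f : E.X n →ₗ[A] (locCx q E).X n := (eta q E n).hom
    haveI : IsLocalizedModule q.asIdeal.primeCompl f := isLocalizedModule_eta q E n
    haveI : Module.Injective B ((locCx q E).X n) :=
      Module.injective_of_isLocalizedModule (S := q.asIdeal.primeCompl) f
    exact Module.injective_object_of_injective_module B ((locCx q E).X n)
  haveI := hinj
  refine ⟨CochainComplex.isKInjective_of_injective _ a, ?_⟩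
  obtain ⟨η, hη, -⟩ := exists_loc_base (S := B) q.asIdeal.primeCompl K
  exact nonempty_iso_of_isUniv ((isUniv_γ q.asIdeal.primeCompl E).comp_iso eE.symm (Iso.refl _)) hη

include hKa hK

theorem loc_bounds : (∀ i, i < a → Subsingleton (Dual.HD B ((DRing.LBaseChange φ).obj K) i)) ∧
    ∀ i, Module.Finite B (Dual.HD B ((DRing.LBaseChange φ).obj K) i) := by
  obtain ⟨η, -, hL⟩ := exists_loc_base (S := B) q.asIdeal.primeCompl K
  exact ⟨isGE_loc q.asIdeal.primeCompl hL a hKa,
    fun i => finite_HD_loc q.asIdeal.primeCompl hL i (hK i)⟩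

include hω

theorem hom_kill_iff {Z : Dual.D B} (hZ : Dual.IsDualizing B Z) {η : ω ⟶ (DRing.restrictD φ).obj Z}
    (hL : IsLocH φ q.asIdeal.primeCompl η) (j : ℤ) (c : A) :
    (∀ g : (DRing.LBaseChange φ).obj K ⟶ Z⟦j⟧, φ c • g = 0) ↔
      ∀ f : K ⟶ ω⟦j⟧, ∃ s ∉ q.asIdeal, s • c • f = 0 := by
  haveI : IsNoetherianRing B := IsLocalization.isNoetherianRing q.asIdeal.primeCompl _ inferInstance
  obtain ⟨a₀, ha₀⟩ := isGE_dualizing hω
  obtain ⟨ηK, hηK, -⟩ := exists_loc_base (S := B) q.asIdeal.primeCompl K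
  obtain ⟨α, β, hamp⟩ := exists_injAmplitude hω
  obtain ⟨α', β', hamp'⟩ := exists_injAmplitude hZ
  haveI := DerivedCategory.TStructure.t.isGE_shift ω a₀ j (a₀ - j) (by omega)
  obtain ⟨hker, hsurj⟩ := hom_loc_above (S := B) q.asIdeal.primeCompl (isLocH_shift hL j)
    (a' := a₀ - j) inferInstance hKa hK (b := max β β' - j + 1)
    (noMapsFrom_shift hamp j _ (by omega))
    (noMapsFrom_restrict q.asIdeal.primeCompl (noMapsFrom_shift hamp' j _ (by omega)))
  constructor
  · intro hkill f
    obtain ⟨g, hg⟩ := (hηK _).2 (f ≫ η⟦j⟧' ≫ ((DRing.restrictD φ).commShiftIso j).inv.app Z)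
    refine hker (c • f) ?_
    rw [Linear.smul_comp, ← hg]
    show c • (ηK ≫ (DRing.restrictD φ).map g) = 0
    rw [← Linear.comp_smul, ← restrictD_smul, hkill g, Functor.map_zero, comp_zero]
  · intro hkill g
    obtain ⟨s, hs, f, hf⟩ := hsurj (ηK ≫ (DRing.restrictD φ).map g)
    obtain ⟨t, ht, htf⟩ := hkill f
    have h1 : (t * s) • (ηK ≫ (DRing.restrictD φ).map (φ c • g)) = 0 := by
      rw [restrictD_smul, Linear.comp_smul, mul_smul, smul_comm s c, hf, ← Linear.smul_comp,
        ← Linear.smul_comp]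
      exact (congrArg (· ≫ _) htf).trans zero_comp
    have h2 : φ (t * s) • φ c • g = 0 := (hηK _).1 (by
      show ηK ≫ _ = ηK ≫ _
      rw [restrictD_smul, Linear.comp_smul, h1, Functor.map_zero, comp_zero])
    exact (IsUnit.smul_eq_zero (IsLocalization.map_units B
      (⟨t * s, q.asIdeal.primeCompl.mul_mem ht hs⟩ : q.asIdeal.primeCompl))).1 h2

/-- The normalized localized dualizing complex and the comparison of `Hom`s. -/
theorem exists_normalized :
    ∃ Z : Dual.D B, Dual.IsDualizing B Z ∧ Dual.IsNormalized B Z ∧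
      ∀ (i : ℤ) (c : A), (∀ g : (DRing.LBaseChange φ).obj K ⟶ Z⟦-i⟧, φ c • g = 0) ↔
        ∀ f : K ⟶ ω⟦deg hω q - i⟧, ∃ s ∉ q.asIdeal, s • c • f = 0 := by
  haveI : IsNoetherianRing B := IsLocalization.isNoetherianRing q.asIdeal.primeCompl _ inferInstance
  obtain ⟨η, hη, hL⟩ := exists_loc_base (S := B) q.asIdeal.primeCompl ω
  set Z := (DRing.LBaseChange φ).obj ω with hZdef
  obtain ⟨a₀, ha₀⟩ := isGE_dualizing hω
  have hZ := isDualizing_loc q.asIdeal.primeCompl hω hη hL
  obtain ⟨hres⟩ := nonempty_extend_quot (S := B) q.asIdeal.primeCompl (IsLocalRing.maximalIdeal B)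
  refine ⟨Z⟦deg hω q⟧, isDualizing_shift hZ (deg hω q), fun j hj => ?_, fun i c => ?_⟩
  · refine (postcompL _ (shift₂ Z (deg hω q) j _ rfl)).toEquiv.subsingleton_congr.2 ?_
    refine subsingleton_of_forall_eq 0 fun g => ?_
    have hcomap : (IsLocalRing.maximalIdeal B).comap φ = q.asIdeal :=
      IsLocalization.AtPrime.comap_maximalIdeal B q.asIdeal
    have := (LcFinLib.ext_loc_iff q hL ha₀ (ModuleCat.of A (A ⧸ (IsLocalRing.maximalIdeal B).comap φ)) hres
      (deg hω q + j) 1).1 (by
        rw [hcomap]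
        intro f
        obtain ⟨s, hs, hsf⟩ := (isDeg_deg hω q).1 (deg hω q + j) (by omega) f
        exact ⟨s, hs, by rw [one_smul]; exact hsf⟩) g
    rwa [map_one, one_smul] at this
  · let j := deg hω q - i
    let e := postcompL ((DRing.LBaseChange φ).obj K) (shift₂ Z (deg hω q) (-i) j (by omega))
    have key := hom_kill_iff q hω K a hKa hK hZ hL j c
    refine Iff.trans ?_ key
    refine ⟨fun h g => ?_, fun h g => e.injective ((map_smul e _ g).trans ((h _).trans (map_zero e).symm))⟩
    rw [← e.apply_symm_apply g, ← map_smul, h, map_zero]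

/-- Vanishing of the local cohomology of the localized complex. -/
theorem subsingleton_HDI_loc_iff (i : ℤ) :
    Subsingleton (Dual2.HDI B (IsLocalRing.maximalIdeal B) ((DRing.LBaseChange φ).obj K) i) ↔
      Van q.asIdeal (K ⟶ ω⟦deg hω q - i⟧) := by
  haveI : IsNoetherianRing B := IsLocalization.isNoetherianRing q.asIdeal.primeCompl _ inferInstance
  obtain ⟨Z, hZ, hZn, hcmp⟩ := exists_normalized q hω K a hKa hK
  obtain ⟨hb, hf⟩ := loc_bounds q K a hKa hK
  rw [subsingleton_HDI_iff hZ hZn _ a hb hf i]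
  have h := hcmp i 1
  simp only [map_one, one_smul] at h
  exact ⟨fun hs => h.1 fun g => hs.elim g 0, fun hv => subsingleton_of_forall_eq 0 (h.2 hv)⟩

/-- Local duality at `q` for complexes, in terms of annihilators. -/
theorem locKill_iff_hom {E : CochainComplex (ModuleCat.{u} A) ℤ} [E.IsStrictlyGE a]
    (hEinj : ∀ n, Injective (E.X n)) (eE : DerivedCategory.Q.obj E ≅ K) (i : ℤ) (c : A) :
    LocKill E q i c ↔ ∀ f : K ⟶ ω⟦deg hω q - i⟧, ∃ s ∉ q.asIdeal, s • c • f = 0 := by
  haveI : IsNoetherianRing B := IsLocalization.isNoetherianRing q.asIdeal.primeCompl _ inferInstance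
  obtain ⟨Z, hZ, hZn, hcmp⟩ := exists_normalized q hω K a hKa hK
  obtain ⟨hb, hf⟩ := loc_bounds q K a hKa hK
  obtain ⟨hKI, ⟨e'⟩⟩ := exists_loc_model q K a hEinj eE
  haveI := hKI
  obtain ⟨e⟩ := exists_HDI_equiv e' (IsLocalRing.maximalIdeal B) i
  rw [locKill_iff_kill, ← kill_iff, ← hcmp, ← forall_HDI_smul_iff hZ hZn _ a hb hf i]
  refine ⟨fun h x => e.injective ((map_smul e _ x).trans ((h _).trans (map_zero e).symm)), fun h x => ?_⟩
  rw [← e.apply_symm_apply x, ← map_smul, h, map_zero]

end LcCxLib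

end
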