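import Groth.Agent.LcCxLib.Local
import Groth.Agent.LcCxLib.Finite
import Groth.Agent.LcFinLib.Main

/-!
Faltings' annihilator theorem for complexes.
-/

set_option autoImplicit false
set_option maxHeartbeats 800000
set_option linter.style.haveILetI false
universe u

open CategoryTheory CategoryTheory.Limits
open Groth.Agent
open LcFinLib
open Groth.Agent.DualCxLib

attribute [local instance] HasDerivedCategory.standard

noncomputable section

namespace LcCxLib

variable {A : Type u} [CommRing A] [IsNoetherianRing A] {ω : Dual.D A} (hω : Dual.IsDualizing A ω)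
include hω

/-- The height in the primes above `p` is the difference of the dimension function. -/
theorem height_eq_deg_sub {p q : PrimeSpectrum A} (h : p ≤ q) :
    Order.height (⟨q, h⟩ : Set.Ici p) = ((deg hω q - deg hω p).toNat : ℕ∞) := by
  refine le_antisymm (Order.height_le fun l hl => ENat.natCast_le_natCast.2 ?_) ?_
  · let l' : LTSeries (PrimeSpectrum A) := l.map Subtype.val (fun _ _ h => h)
    have h1 := length_le_deg_sub hω l'
    have h2 : deg hω p ≤ deg hω l'.head := (deg_strictMono hω).monotone l.head.2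
    have h3 : deg hω l'.last ≤ deg hω q := (deg_strictMono hω).monotone
      (le_of_eq (congrArg Subtype.val hl))
    change l'.length ≤ _
    omega
  · obtain ⟨l, hl, hl', hlen⟩ := exists_series_to hω p q h
    let l' : LTSeries (Set.Ici p) := ⟨l.length, fun i => ⟨l.toFun i, hl ▸ LTSeries.head_le l i⟩,
      fun i => l.step i⟩
    refine le_trans ?_ (Order.length_le_height (p := l') (show l.last ≤ q from hl'.le))
    refine ENat.natCast_le_natCast.2 ?_
    change _ ≤ l.length
    omega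

variable (K : Dual.D A) (a : ℤ) (hKa : ∀ i : ℤ, i < a → Subsingleton (Dual.HD A K i))
  (hK : ∀ i : ℤ, Module.Finite A (Dual.HD A K i))
  [∀ p : PrimeSpectrum A, DRing.HasLBaseChange (algebraMap A (Localization.AtPrime p.asIdeal))]
include hKa hK

/-- One ideal kills the relevant `Hom`s at all points of `T`. -/
theorem exists_ideal_hom (T T' : Set (PrimeSpectrum A)) (hT' : StableUnderSpecialization T') (s : ℤ)
    (hcond : ∀ p q : PrimeSpectrum A, p ∉ T' → q ∈ T → p ≤ q → ∀ j : ℤ, deg hω q - s ≤ j →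
      Van p.asIdeal (K ⟶ ω⟦j⟧)) :
    ∃ J : Ideal A, PrimeSpectrum.zeroLocus (J : Set A) ⊆ T' ∧ ∀ q ∈ T, ∀ i, a ≤ i → i ≤ s →
      ∀ c ∈ J, ∀ f : K ⟶ ω⟦deg hω q - i⟧, ∃ t ∉ q.asIdeal, t • c • f = 0 := by
  classical
  obtain ⟨lo, hi, hb⟩ := exists_deg_bounds hω
  have hj : ∀ j : ℤ, ∃ J : Ideal A, PrimeSpectrum.zeroLocus (J : Set A) ⊆ T' ∧
      ∀ q ∈ T, ∀ i ≤ s, deg hω q - i = j → ∀ c ∈ J,
        ∀ f : K ⟶ ω⟦j⟧, ∃ t ∉ q.asIdeal, t • c • f = 0 := by
    intro j
    haveI := isNoetherian_hom hω K a hKa hK j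
    let N := Module.annihilator A (K ⟶ ω⟦j⟧)
    let P := (Ideal.finite_minimalPrimes_of_isNoetherianRing A N).toFinset
    let inT : Ideal A → Prop := fun g => ∀ h : g.IsPrime, (⟨g, h⟩ : PrimeSpectrum A) ∈ T'
    let J₁ := ∏ g ∈ P.filter inT, g
    let J₂ := ∏ g ∈ P.filter (fun g => ¬ inT g), g
    have hrad : J₁ * J₂ ≤ N.radical := by
      rw [show J₁ * J₂ = ∏ g ∈ P, g from Finset.prod_filter_mul_prod_filter_not P inT _,
        ← Ideal.sInf_minimalPrimes]
      refine le_sInf fun g hg => ?_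
      exact Ideal.prod_le_inf.trans (Finset.inf_le (f := id) ((Set.Finite.mem_toFinset _).2 hg))
    obtain ⟨k, hk⟩ := Ideal.exists_pow_le_of_le_radical_of_fg hrad (IsNoetherian.noetherian _)
    refine ⟨J₁ ^ (k + 1), fun r hr => ?_, fun q hq i hi hqi c hc f => ?_⟩
    · have hr' : J₁ ≤ r.asIdeal :=
        (Ideal.IsPrime.pow_le_iff (Nat.succ_ne_zero k)).1 (show J₁ ^ (k + 1) ≤ r.asIdeal from hr)
      obtain ⟨g, hg, hgr⟩ := (Ideal.IsPrime.prod_le r.isPrime).1 hr'
      obtain ⟨hgP, hgT⟩ := Finset.mem_filter.1 hg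
      have hgmin := (Set.Finite.mem_toFinset _).1 hgP
      exact hT' ((PrimeSpectrum.le_iff_specializes ⟨g, hgmin.1.1⟩ r).1 hgr) (hgT hgmin.1.1)
    · have hJ₂ : ¬ J₂ ≤ q.asIdeal := fun h => by
        obtain ⟨g, hg, hgq⟩ := (Ideal.IsPrime.prod_le q.isPrime).1 h
        obtain ⟨hgP, hgT⟩ := Finset.mem_filter.1 hg
        have hgmin := (Set.Finite.mem_toFinset _).1 hgP
        obtain ⟨hgp, hgT⟩ : ∃ hgp : g.IsPrime, (⟨g, hgp⟩ : PrimeSpectrum A) ∉ T' := not_forall.1 hgT
        let G : PrimeSpectrum A := ⟨g, hgp⟩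
        exact mem_support_iff_not_van.1 (Module.mem_support_iff_of_finite.2 hgmin.1.2)
          (hcond G q hgT hq hgq j (by omega))
      obtain ⟨e, he, heq⟩ := Set.not_subset.1 hJ₂
      refine ⟨e ^ k, fun h => heq (q.isPrime.mem_of_pow_mem k h), ?_⟩
      rw [smul_smul, mul_comm]
      refine Module.mem_annihilator.1 (hk ?_) f
      rw [mul_pow]
      exact Ideal.mul_mem_mul (Ideal.pow_le_pow_right (Nat.le_succ k) hc) (Ideal.pow_mem_pow he k)
  choose J hJT hJ using hj
  refine ⟨∏ j ∈ Finset.Icc (lo - s) (hi - a), J j, fun r hr => ?_, fun q hq i hai his c hc f => ?_⟩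
  · obtain ⟨j, -, hle⟩ := (Ideal.IsPrime.prod_le r.isPrime).1
      (show (∏ j ∈ Finset.Icc (lo - s) (hi - a), J j) ≤ r.asIdeal from hr)
    exact hJT j hle
  · have hmem : deg hω q - i ∈ Finset.Icc (lo - s) (hi - a) := by
      have h1 := hb q
      rw [Finset.mem_Icc]
      omega
    exact hJ _ q hq i his rfl c ((Ideal.prod_le_inf.trans (Finset.inf_le hmem)) hc) f

/-- Faltings' annihilator theorem for bounded below complexes with finite cohomology. -/
theorem exists_ideal_kill_iff (T T' : Set (PrimeSpectrum A)) (hT : StableUnderSpecialization T)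
    (hT' : StableUnderSpecialization T') (s : ℤ) :
    (∃ J : Ideal A, PrimeSpectrum.zeroLocus (J : Set A) ⊆ T' ∧ ∀ i : ℤ, i ≤ s → ∀ c ∈ J,
      ∀ x : Dual2.HDT A T K i, c • x = 0) ↔
    (∀ (p q : PrimeSpectrum A) (hpq : p ≤ q), p ∉ T' → q ∈ T → ∀ h : ℕ,
      Order.height (⟨q, hpq⟩ : Set.Ici p) = h → ∀ i : ℤ, i ≤ s - h →
        Subsingleton (Dual2.HDI (Localization.AtPrime p.asIdeal)
          (IsLocalRing.maximalIdeal (Localization.AtPrime p.asIdeal))
          ((DRing.LBaseChange (algebraMap A (Localization.AtPrime p.asIdeal))).obj K) i)) := by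
  obtain ⟨E, hEa, hEinj, hEK, ⟨eE⟩⟩ := exists_model K a hKa
  haveI := hEa
  haveI := hEK
  have hb := baer_X hEinj
  have hkill : ∀ (i : ℤ) (c : A), (∀ x : Dual2.HDT A T K i, c • x = 0) ↔ Kill T E i c := fun i c => by
    obtain ⟨e⟩ := exists_HDT_equiv eE T i
    rw [← kill_iff]
    refine ⟨fun h x => ?_, fun h x => e.injective ((map_smul e c x).trans ((h _).trans (map_zero e).symm))⟩
    rw [← e.apply_symm_apply x, ← map_smul, h, map_zero]
  obtain ⟨lo, hi, hdeg⟩ := exists_deg_bounds hω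
  constructor
  · rintro ⟨J, hJ, hJk⟩ p q hpq hp hq h hh i hi'
    obtain ⟨c, hcJ, hcp⟩ := Set.not_subset.1 fun h => hp (hJ (h : (J : Set A) ⊆ p.asIdeal))
    rw [height_eq_deg_sub hω hpq, Nat.cast_inj] at hh
    have hmono := (deg_strictMono hω).monotone hpq
    rw [subsingleton_HDI_loc_iff p hω K a hKa hK i]
    let i' := deg hω q - deg hω p + i
    have hk := kill_of_subset (T' := PrimeSpectrum.zeroLocus (q.asIdeal : Set A))
      (zeroLocus_subset hT hq) hb (a₀ := a) (fun l hl => subsingleton_X hl) c i'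
      (fun l hl => (hkill l c).1 (hJk l (by omega) c hcJ))
    have hloc : LocKill E q i' (c ^ ((i' - a).toNat + 1)) := fun z hz =>
      ⟨1, fun h => q.isPrime.ne_top ((Ideal.eq_top_iff_one _).2 h),
        (hk z hz).imp fun w hw => ⟨hw.1, hw.2.trans (one_smul _ _).symm⟩⟩
    have hext := (locKill_iff_hom q hω K a hKa hK hEinj eE i' _).1 hloc
    rw [show deg hω q - i' = deg hω p - i by omega] at hext
    intro f
    obtain ⟨t, ht, htf⟩ := hext f
    refine ⟨t * c ^ ((i' - a).toNat + 1), fun h => ?_, by rw [mul_smul]; exact htf⟩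
    rcases p.isPrime.mem_or_mem h with h | h
    · exact ht (hpq h)
    · exact hcp (p.isPrime.mem_of_pow_mem _ h)
  · intro hcond
    obtain ⟨J₀, hJ₀, hJ₀'⟩ := exists_ideal_hom hω K a hKa hK T T' hT' s fun p q hp hq hpq j hj => by
      have hmono := (deg_strictMono hω).monotone hpq
      have h := hcond p q hpq hp hq (deg hω q - deg hω p).toNat (height_eq_deg_sub hω hpq)
        (deg hω p - j) (by omega)
      rw [subsingleton_HDI_loc_iff p hω K a hKa hK] at h
      rwa [show deg hω p - (deg hω p - j) = j by omega] at h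
    let N := (hi - lo + 1).toNat
    refine ⟨Ideal.span ((fun c => c ^ N) '' (J₀ : Set A)), fun r hr => hJ₀ fun c hc => ?_,
      fun i his c hc => (hkill i c).2 ?_⟩
    · refine r.isPrime.mem_of_pow_mem N ?_
      exact (show Ideal.span ((fun c => c ^ N) '' (J₀ : Set A)) ≤ r.asIdeal from hr)
        (Ideal.subset_span ⟨c, hc, rfl⟩)
    · refine (Ideal.span_le.2 ?_ : _ ≤ killIdeal T E i) hc
      rintro _ ⟨d, hd, rfl⟩
      show Kill T E i (d ^ N)
      by_cases hia : i < a
      · exact kill_of_subsingleton T E (subsingleton_X hia) _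
      · refine kill_pow_of_locKill hb hT (deg hω) (deg_strictMono hω) lo hi hdeg d i fun q hq => ?_
        exact (locKill_iff_hom q hω K a hKa hK hEinj eE i d).2 (hJ₀' q hq i (by omega) his d hd)

end LcCxLib

end
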