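import Groth.Agent.LcCxLib.Basic
import Groth.Agent.DerLib.KInjUse
import Groth.Prelude.Def_DualLC
import Mathlib.Algebra.Homology.HomotopyCategory.HomComplexSingle

/-!
Injective models, and `HDT` on them.
-/

set_option autoImplicit false
set_option linter.style.haveILetI false
set_option backward.isDefEq.respectTransparency false

universe u v

open CategoryTheory CategoryTheory.Limits HomologicalComplex Opposite
open CochainComplex.HomComplex
open LcFinLib
open Groth.Agent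

attribute [local instance] HasDerivedCategory.standard

noncomputable section

namespace LcCxLib

variable {A : Type u} [CommRing A]

/-- A bounded below injective model. -/
theorem exists_model (K : Dual.D A) (a : ℤ) (h : ∀ i : ℤ, i < a → Subsingleton (Dual.HD A K i)) :
    ∃ (E : CochainComplex (ModuleCat.{u} A) ℤ), E.IsStrictlyGE a ∧ (∀ n, Injective (E.X n)) ∧
      E.IsKInjective ∧ Nonempty (DerivedCategory.Q.obj E ≅ K) := by
  haveI : K.IsGE a := (DerivedCategory.isGE_iff K a).2 fun i hi =>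
    haveI := h i hi
    ModuleCat.isZero_of_subsingleton _
  obtain ⟨C, hC, ⟨e⟩⟩ := K.exists_iso_Q_obj_of_isGE a
  obtain ⟨L, i, hi, hL, hge⟩ :=
    CochainComplex.Plus.modelCategoryQuillen.exists_quasiIso_injective C a
  haveI := hi
  exact ⟨L, hge, hL, CochainComplex.isKInjective_of_injective L a,
    ⟨(asIso (DerivedCategory.Q.map i)).symm ≪≫ e.symm⟩⟩

theorem subsingleton_X {E : CochainComplex (ModuleCat.{u} A) ℤ} {a : ℤ} [E.IsStrictlyGE a] {i : ℤ}
    (hi : i < a) : Subsingleton (E.X i) :=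
  ModuleCat.subsingleton_of_isZero (E.isZero_of_isStrictlyGE a i hi)

theorem baer_X {E : CochainComplex (ModuleCat.{u} A) ℤ} (h : ∀ n, Injective (E.X n)) (n : ℤ) :
    Module.Baer A (E.X n) :=
  Module.Baer.of_injective (Module.injective_module_of_injective_object A (E.X n) (inj := h n))

section Shift

variable (T : Set (PrimeSpectrum A)) {E E' : CochainComplex (ModuleCat.{u} A) ℤ} {i j : ℤ}

/-- Cohomology with support is transported along an isomorphism in two degrees. -/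
theorem nonempty_HT_equiv (e : E.X i ≃ₗ[A] E'.X j) (e' : E.X (i - 1) ≃ₗ[A] E'.X (j - 1))
    (c : Aˣ) (hd : ∀ w, (E'.d (j - 1) j).hom (e' w) = (c : A) • e ((E.d (i - 1) i).hom w))
    (hz : ∀ z, (E.d i (i + 1)).hom z = 0 ↔ (E'.d j (j + 1)).hom (e z) = 0) :
    Nonempty (HT T E i ≃ₗ[A] HT T E' j) := by
  have hcyc : (cyc E i).map e.toLinearMap = cyc E' j := by
    ext z
    refine ⟨?_, fun h => ⟨e.symm z, (hz _).2 (by rw [e.apply_symm_apply]; exact h), e.apply_symm_apply z⟩⟩
    rintro ⟨x, hx, rfl⟩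
    exact (hz x).1 hx
  let ec : cyc E i ≃ₗ[A] cyc E' j := (e.submoduleMap (cyc E i)).trans (LinearEquiv.ofEq _ _ hcyc)
  have hg : (gam T (cyc E i)).map ec.toLinearMap = gam T (cyc E' j) := by
    ext z
    refine ⟨?_, fun h => ⟨ec.symm z, map_mem_gam ec.symm.toLinearMap h, ec.apply_symm_apply z⟩⟩
    rintro ⟨x, hx, rfl⟩
    exact map_mem_gam ec.toLinearMap hx
  let eg : gam T (cyc E i) ≃ₗ[A] gam T (cyc E' j) :=
    (ec.submoduleMap _).trans (LinearEquiv.ofEq _ _ hg)
  refine ⟨Submodule.Quotient.equiv _ _ eg ?_⟩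
  ext z
  constructor
  · rintro ⟨_, ⟨w, rfl⟩, rfl⟩
    refine ⟨((c⁻¹ : Aˣ) : A) • ⟨e' w.1, map_mem_gam e'.toLinearMap w.2⟩, Subtype.ext (Subtype.ext ?_)⟩
    show (E'.d (j - 1) j).hom (((c⁻¹ : Aˣ) : A) • e' w.1) = e ((E.d (i - 1) i).hom w.1)
    rw [map_smul, hd, smul_smul, Units.inv_mul, one_smul]
  · rintro ⟨w, rfl⟩
    refine ⟨gamPi T E i ((c : A) • ⟨e'.symm w.1, map_mem_gam e'.symm.toLinearMap w.2⟩), ⟨_, rfl⟩,
      Subtype.ext (Subtype.ext ?_)⟩
    show e ((E.d (i - 1) i).hom ((c : A) • e'.symm w.1)) = (E'.d (j - 1) j).hom w.1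
    rw [map_smul, map_smul, ← hd, e'.apply_symm_apply]

theorem nonempty_HT_shift (E : CochainComplex (ModuleCat.{u} A) ℤ) (q : ℤ) :
    Nonempty (HT T (E⟦q⟧) 0 ≃ₗ[A] HT T E q) := by
  let e0 := (CochainComplex.shiftFunctorObjXIso E q 0 q (by omega)).toLinearEquiv
  let e1 := (CochainComplex.shiftFunctorObjXIso E q (0 - 1) (q - 1) (by omega)).toLinearEquiv
  let c : Aˣ := Units.map (Int.castRingHom A).toMonoidHom q.negOnePow
  have key : ∀ (i j m l : ℤ) (h : m = i + q) (h' : l = j + q) (x : (E⟦q⟧).X i),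
      (E.d m l).hom ((CochainComplex.shiftFunctorObjXIso E q i m h).toLinearEquiv x) =
        (c : A) • (CochainComplex.shiftFunctorObjXIso E q j l h').toLinearEquiv (((E⟦q⟧).d i j).hom x) := by
    intro i j m l h h' x
    subst h h'
    simp only [CochainComplex.shiftFunctor_obj_d']
    show (E.d _ _).hom x = (c : A) • (((q.negOnePow : ℤˣ) : ℤ) • (E.d (i + q) (j + q))).hom x
    rw [show (c : A) = ((q.negOnePow : ℤ) : A) from rfl, ModuleCat.hom_zsmul, LinearMap.smul_apply,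
      Int.cast_smul_eq_zsmul, smul_smul, ← Units.val_mul, Int.units_mul_self, Units.val_one, one_smul]
  refine nonempty_HT_equiv T e0 e1 c (fun w => key (0 - 1) 0 (q - 1) q (by omega) (by omega) w)
    fun z => ?_
  have h1 := key 0 (0 + 1) q (q + 1) (by omega) (by omega) z
  constructor
  · intro h
    exact h1.trans (by rw [h, map_zero, smul_zero])
  · intro h
    have h2 : (c : A) • (CochainComplex.shiftFunctorObjXIso E q (0 + 1) (q + 1) (by omega)).toLinearEquiv
        (((E⟦q⟧).d 0 (0 + 1)).hom z) = 0 := h1.symm.trans h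
    exact (LinearEquiv.map_eq_zero_iff _).1 ((IsUnit.smul_eq_zero c.isUnit).1 h2)

end Shift

variable (E : CochainComplex (ModuleCat.{u} A) ℤ)

/-- Degree-zero cocycles killed by `J`. -/
def Z (J : Ideal A) : Submodule A (E.X 0) where
  carrier := {z | (E.d 0 1).hom z = 0 ∧ ∀ a ∈ J, a • z = 0}
  zero_mem' := ⟨map_zero _, fun a _ => smul_zero a⟩
  add_mem' := fun h h' => ⟨by rw [map_add, h.1, h'.1, add_zero],
    fun a ha => by rw [smul_add, h.2 a ha, h'.2 a ha, add_zero]⟩
  smul_mem' := fun r _ h => ⟨by rw [map_smul, h.1, smul_zero],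
    fun a ha => by rw [smul_comm, h.2 a ha, smul_zero]⟩

variable {E} (J : Ideal A)

/-- The map `A/J → E^0` given by a killed element. -/
def gHom (z : Z E J) : ModuleCat.of A (A ⧸ J) ⟶ E.X 0 :=
  ModuleCat.ofHom (Submodule.liftQ _ (LinearMap.toSpanSingleton A (E.X 0) z.1) fun a ha => z.2.2 a ha)

theorem gHom_d (z : Z E J) (k : ℤ) (hk : (ComplexShape.up ℤ).Rel 0 k) : gHom J z ≫ E.d 0 k = 0 := by
  obtain rfl : (0 : ℤ) + 1 = k := hk
  refine ModuleCat.hom_ext (Submodule.linearMap_qext _ (LinearMap.ext_ring ?_))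
  change (E.d 0 1).hom ((1 : A) • z.1) = 0
  rw [one_smul, z.2.1]

/-- The chain map given by a killed cocycle. -/
def fMap (z : Z E J) :
    (single (ModuleCat.{u} A) (ComplexShape.up ℤ) 0).obj (ModuleCat.of A (A ⧸ J)) ⟶ E :=
  mkHomFromSingle (gHom J z) (gHom_d J z)

theorem fMap_f (z : Z E J) :
    (fMap J z).f 0 = (singleObjXSelf (ComplexShape.up ℤ) 0 _).hom ≫ gHom J z :=
  mkHomFromSingle_f _ _

theorem gHom_add (z z' : Z E J) : gHom J (z + z') = gHom J z + gHom J z' :=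
  ModuleCat.hom_ext (Submodule.linearMap_qext _ (LinearMap.ext_ring
    (show (1 : A) • (z.1 + z'.1) = (1 : A) • z.1 + (1 : A) • z'.1 from smul_add _ _ _)))

theorem gHom_smul (r : A) (z : Z E J) : gHom J (r • z) = r • gHom J z :=
  ModuleCat.hom_ext (Submodule.linearMap_qext _ (LinearMap.ext_ring
    (show (1 : A) • (r • z.1) = r • ((1 : A) • z.1) from smul_comm _ _ _)))

theorem fMap_surjective
    (f : (single (ModuleCat.{u} A) (ComplexShape.up ℤ) 0).obj (ModuleCat.of A (A ⧸ J)) ⟶ E) :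
    ∃ z, fMap J z = f := by
  let g := (singleObjXSelf (ComplexShape.up ℤ) 0 _).inv ≫ f.f 0
  have hg : g ≫ E.d 0 1 = 0 := by simp [g]
  refine ⟨⟨g.hom (Submodule.Quotient.mk 1), ?_, fun a ha => ?_⟩, from_single_hom_ext ?_⟩
  · exact congrArg (fun φ => φ.hom (Submodule.Quotient.mk 1)) hg
  · rw [← map_smul, ← Submodule.Quotient.mk_smul, smul_eq_mul, mul_one,
      (Submodule.Quotient.mk_eq_zero _).2 ha, map_zero]
  · rw [fMap_f, ← Iso.eq_inv_comp]
    refine ModuleCat.hom_ext (Submodule.linearMap_qext _ (LinearMap.ext_ring ?_))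
    exact one_smul A _

variable {X : Dual.D A} (b : DerivedCategory.Q.obj E ≅ X)

/-- The morphism in `D(A)` given by a killed cocycle. -/
def psi : Z E J →ₗ[A]
    ((DerivedCategory.singleFunctor (ModuleCat.{u} A) 0).obj (ModuleCat.of A (A ⧸ J)) ⟶ X) where
  toFun z := ((DerivedCategory.singleFunctorIsoCompQ (ModuleCat.{u} A) 0).app _).hom ≫
    DerivedCategory.Q.map (fMap J z) ≫ b.hom
  map_add' z z' := by
    have h : fMap J (z + z') = fMap J z + fMap J z' := from_single_hom_ext (by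
      rw [add_f_apply, fMap_f, fMap_f, fMap_f, gHom_add, Preadditive.comp_add])
    rw [h, Functor.map_add, Preadditive.add_comp, Preadditive.comp_add]
  map_smul' r z := by
    have h : fMap J (r • z) = r • fMap J z := from_single_hom_ext (by
      rw [fMap_f, gHom_smul, Linear.comp_smul]
      exact congrArg (r • ·) (fMap_f J z).symm)
    rw [h, Functor.map_smul, Linear.smul_comp, Linear.comp_smul]
    rfl

theorem psi_apply (z : Z E J) : psi J b z =
    ((DerivedCategory.singleFunctorIsoCompQ (ModuleCat.{u} A) 0).app (ModuleCat.of A (A ⧸ J))).hom ≫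
      DerivedCategory.Q.map (fMap J z) ≫ b.hom := rfl

theorem psi_surjective [E.IsKInjective] : Function.Surjective (psi J b) := fun t => by
  obtain ⟨f, hf⟩ := DerLib.KInjUse.Q_map_surjective _ E
    (((DerivedCategory.singleFunctorIsoCompQ (ModuleCat.{u} A) 0).app _).inv ≫ t ≫ b.inv)
  obtain ⟨z, rfl⟩ := fMap_surjective J f
  refine ⟨z, ?_⟩
  rw [psi_apply]
  rw [hf]
  simp

theorem psi_eq_zero [E.IsKInjective] (z : Z E J) (h : psi J b z = 0) :
    ∃ w : E.X (-1), (∀ a ∈ J, a • w = 0) ∧ (E.d (-1) 0).hom w = z.1 := by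
  have h0 : DerivedCategory.Q.map (fMap J z) = 0 := by
    have : ((DerivedCategory.singleFunctorIsoCompQ (ModuleCat.{u} A) 0).app _).hom ≫
      DerivedCategory.Q.map (fMap J z) ≫ b.hom = 0 := h
    have h1 := congrArg (fun φ => ((DerivedCategory.singleFunctorIsoCompQ (ModuleCat.{u} A) 0).app
      (ModuleCat.of A (A ⧸ J))).inv ≫ φ ≫ b.inv) this
    simpa using h1
  obtain ⟨ho⟩ := (HomotopyCategory.quotient_map_eq_zero_iff _).1 (DerLib.KInjUse.quotient_eq_zero_of_Q h0)
  have hc : (fMap J z).f 0 = ho.hom 0 (-1) ≫ E.d (-1) 0 := by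
    have := ho.comm 0
    rw [dNext_eq _ (show (ComplexShape.up ℤ).Rel 0 1 from rfl),
      prevD_eq _ (show (ComplexShape.up ℤ).Rel (-1) 0 from rfl)] at this
    simpa using this
  rw [fMap_f, ← Iso.eq_inv_comp, ← Category.assoc] at hc
  let g := (singleObjXSelf (ComplexShape.up ℤ) 0 (ModuleCat.of A (A ⧸ J))).inv ≫ ho.hom 0 (-1)
  refine ⟨g.hom (Submodule.Quotient.mk 1), fun a ha => ?_, ?_⟩
  · rw [← map_smul, ← Submodule.Quotient.mk_smul, smul_eq_mul, mul_one,
      (Submodule.Quotient.mk_eq_zero _).2 ha, map_zero]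
  · exact (congrArg (fun φ => φ.hom (Submodule.Quotient.mk 1)) hc).symm.trans (one_smul A z.1)

theorem psi_of_boundary (z : Z E J) (w : E.X (-1)) (hw : ∀ a ∈ J, a • w = 0)
    (hd : (E.d (-1) 0).hom w = z.1) : psi J b z = 0 := by
  let g : ModuleCat.of A (A ⧸ J) ⟶ E.X (-1) :=
    ModuleCat.ofHom (Submodule.liftQ _ (LinearMap.toSpanSingleton A (E.X (-1)) w) fun a ha => hw a ha)
  have hg : g ≫ E.d (-1) 0 = gHom J z :=
    ModuleCat.hom_ext (Submodule.linearMap_qext _ (LinearMap.ext_ring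
      (show (E.d (-1) 0).hom ((1 : A) • w) = (1 : A) • z.1 by rw [one_smul, one_smul, hd])))
  let β : Cochain ((CochainComplex.singleFunctor (ModuleCat.{u} A) 0).obj (ModuleCat.of A (A ⧸ J))) E (-1) :=
    Cochain.fromSingleMk g (zero_add _)
  have hβ : Cochain.ofHom (fMap J z) = δ (-1) 0 β + Cochain.ofHom 0 := by
    rw [Cochain.ofHom_zero, add_zero, Cochain.δ_fromSingleMk _ _ 0 0 (add_zero 0), hg]
    apply (Cochain.fromSingleEquiv (add_zero (0 : ℤ))).injective
    rw [Cochain.fromSingleEquiv_fromSingleMk]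
    simp [Cochain.fromSingleEquiv, fMap_f]
  have := HomotopyCategory.eq_of_homotopy _ _ ((Cochain.equivHomotopy _ _).symm ⟨β, hβ⟩)
  rw [Functor.map_zero] at this
  rw [psi_apply]
  rw [DerLib.KInjUse.Q_map_zero_of_quotient this, zero_comp, comp_zero]

/-- The inclusion of killed cocycles. -/
def zIncl {J J' : Ideal A} (h : J' ≤ J) : Z E J →ₗ[A] Z E J' :=
  Submodule.inclusion fun _ hz => ⟨hz.1, fun a ha => hz.2 a (h ha)⟩

variable {T : Set (PrimeSpectrum A)} {D : Type v} [SmallCategory D] (F : D ⥤ Ideal A)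

/-- The class of a killed cocycle. -/
def chi (hF : PrimeSpectrum.zeroLocus (J : Set A) ⊆ T) : Z E J →ₗ[A] HT T E 0 :=
  (LinearMap.range (gamPi T E 0)).mkQ ∘ₗ
    LinearMap.codRestrict (gam T (cyc E 0))
      (LinearMap.codRestrict (cyc E 0) (Z E J).subtype fun z => z.2.1)
      fun z => (mem_gam_cyc T E).2 ⟨J, hF, z.2.2⟩

theorem chi_eq_zero_iff (hF : PrimeSpectrum.zeroLocus (J : Set A) ⊆ T) (z : Z E J) :
    chi J hF z = 0 ↔ ∃ w ∈ gam T (E.X (-1)), (E.d (-1) 0).hom w = z.1 := by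
  refine (Submodule.Quotient.mk_eq_zero _).trans ⟨?_, ?_⟩
  · rintro ⟨w, hw⟩
    exact ⟨w.1, w.2, congrArg (fun x => x.1.1) hw⟩
  · rintro ⟨w, hw, hwz⟩
    exact ⟨⟨w, hw⟩, Subtype.ext (Subtype.ext hwz)⟩

/-- The system of morphism modules. -/
abbrev sys (X : Dual.D A) : Dᵒᵖ ⥤ ModuleCat.{u + 1} A :=
  (localCohomology.ringModIdeals F ⋙
    DerivedCategory.singleFunctor (ModuleCat.{u} A) 0).op ⋙ (linearYoneda A (Dual.D A)).obj X

theorem psi_natural {i j : Dᵒᵖ} (φ : i ⟶ j) (h : F.obj j.unop ≤ F.obj i.unop) (z : Z E (F.obj i.unop)) :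
    (sys F X).map φ (psi (F.obj i.unop) b z) = psi (F.obj j.unop) b (zIncl h z) := by
  change (DerivedCategory.singleFunctor (ModuleCat.{u} A) 0).map
    ((localCohomology.ringModIdeals F).map φ.unop) ≫ _ = _
  rw [psi_apply, psi_apply]
  erw [reassoc_of% ((DerivedCategory.singleFunctorIsoCompQ (ModuleCat.{u} A) 0).hom.naturality
    ((localCohomology.ringModIdeals F).map φ.unop))]
  congr 1
  erw [← Functor.map_comp_assoc]
  congr 2
  refine from_single_hom_ext ?_
  rw [fMap_f, comp_f, fMap_f]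
  erw [single_map_f_self, Category.assoc, Category.assoc, Iso.inv_hom_id_assoc]
  exact congrArg (_ ≫ ·) (ModuleCat.hom_ext (Submodule.linearMap_qext _ (LinearMap.ext_ring rfl)))

include b in
theorem exists_equiv [IsCofiltered D] [HasColimitsOfShape Dᵒᵖ (ModuleCat.{u + 1} A)]
    [PreservesColimitsOfShape Dᵒᵖ (forget (ModuleCat.{u + 1} A))] [E.IsKInjective]
    (hF : ∀ i, PrimeSpectrum.zeroLocus (F.obj i : Set A) ⊆ T)
    (hcof : ∀ J : Ideal A, PrimeSpectrum.zeroLocus (J : Set A) ⊆ T → ∃ i, F.obj i ≤ J) :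
    Nonempty ((colimit (sys F X) : ModuleCat.{u + 1} A) ≃ₗ[A] HT T E 0) := by
  have hker : ∀ i, LinearMap.ker (psi (F.obj i) b) ≤ LinearMap.ker (chi (E := E) (F.obj i) (hF i)) :=
    fun i z hz => by
      obtain ⟨w, hw, hd⟩ := psi_eq_zero _ b z hz
      exact (chi_eq_zero_iff _ _ z).2 ⟨w, ⟨F.obj i, hF i, hw⟩, hd⟩
  let phi : ∀ i : D, ((DerivedCategory.singleFunctor (ModuleCat.{u} A) 0).obj
      (ModuleCat.of A (A ⧸ F.obj i)) ⟶ X) →ₗ[A] ULift.{u + 1} (HT T E 0) := fun i =>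
    ULift.moduleEquiv.symm.toLinearMap ∘ₗ (Submodule.liftQ _ (chi (F.obj i) (hF i)) (hker i)) ∘ₗ
      ((psi (F.obj i) b).quotKerEquivOfSurjective (psi_surjective _ b)).symm.toLinearMap
  have hphi : ∀ i z, phi i (psi (F.obj i) b z) = ULift.up (chi (F.obj i) (hF i) z) := fun i z => by
    simp only [phi, LinearMap.comp_apply, LinearEquiv.coe_coe]
    rw [show ((psi (F.obj i) b).quotKerEquivOfSurjective (psi_surjective _ b)).symm (psi _ b z) =
      Submodule.Quotient.mk z from (LinearEquiv.symm_apply_eq _).2 rfl]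
    rfl
  let c : Cocone (sys F X) := Cocone.mk (ModuleCat.of A (ULift.{u + 1} (HT T E 0)))
    { app := fun i => ModuleCat.ofHom (phi i.unop)
      naturality := fun i j φ => ModuleCat.hom_ext (LinearMap.ext fun t => by
        obtain ⟨z, rfl⟩ := psi_surjective _ b t
        have h : F.obj j.unop ≤ F.obj i.unop := (F.map φ.unop).down.down
        change phi j.unop ((sys F X).map φ (psi _ b z)) = phi i.unop (psi _ b z)
        rw [psi_natural b F φ h z, hphi, hphi]
        rfl) }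
  let d := colimit.desc (sys F X) c
  have hd : ∀ i z, d (colimit.ι (sys F X) i (psi _ b z)) = ULift.up (chi (F.obj i.unop) (hF i.unop) z) :=
    fun i z => (congrArg (fun f : (sys F X).obj i ⟶ c.pt => f (psi _ b z))
      (colimit.ι_desc c i)).trans (hphi _ z)
  refine ⟨(LinearEquiv.ofBijective d.hom ⟨?_, ?_⟩).trans ULift.moduleEquiv⟩
  · rw [← LinearMap.ker_eq_bot, Submodule.eq_bot_iff]
    intro x hx
    obtain ⟨i, t, rfl⟩ := Concrete.colimit_exists_rep (sys F X) x
    obtain ⟨z, rfl⟩ := psi_surjective _ b t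
    obtain ⟨w, ⟨L, hL, hLw⟩, hw⟩ :=
      (chi_eq_zero_iff _ _ z).1 (congrArg ULift.down ((hd i z).symm.trans hx))
    obtain ⟨m, hm⟩ := hcof L hL
    obtain ⟨k, f₁, f₂, -⟩ := IsCofilteredOrEmpty.cone_objs i.unop m
    have h0 : (sys F X).map f₁.op (psi _ b z) = 0 := by
      have h1 : F.obj k ≤ F.obj i.unop := (F.map f₁).down.down
      rw [psi_natural b F f₁.op h1 z]
      exact psi_of_boundary _ b _ w
        (fun a ha => hLw a (hm ((F.map f₂).down.down ha))) hw
    exact ((congrArg (fun f : (sys F X).obj i ⟶ colimit (sys F X) => f (psi _ b z))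
      (colimit.w (sys F X) f₁.op)).symm.trans
        (congrArg (colimit.ι (sys F X) (op k)) h0)).trans (map_zero _)
  · rintro ⟨h⟩
    obtain ⟨⟨⟨x, hx⟩, hg⟩, rfl⟩ := Submodule.Quotient.mk_surjective _ h
    obtain ⟨L, hL, hLx⟩ := (mem_gam_cyc T E).1 hg
    obtain ⟨m, hm⟩ := hcof L hL
    exact ⟨colimit.ι (sys F X) (op m) (psi _ b ⟨x, hx, fun a ha => hLx a (hm ha)⟩), hd (op m) _⟩

end LcCxLib

end
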