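import Groth.Agent.LcCxLib.Cone
import Groth.Agent.LcCxLib.Model

/-!
Complexes on which the generators of an ideal act null-homotopically, and finiteness of the
cohomology of cones.
-/

set_option autoImplicit false
set_option linter.style.haveILetI false
universe u

open CategoryTheory
open LcFinLib

noncomputable section

namespace LcCxLib

variable {A : Type u} [CommRing A] (E : CochainComplex (ModuleCat.{u} A) ℤ)

/-- `y` is null-homotopic on `E`. -/
def Null (y : A) : Prop :=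
  ∃ h : ∀ i j : ℤ, E.X i →ₗ[A] E.X j, ∀ (i : ℤ) (z : E.X i),
    (E.d (i - 1) i).hom (h i (i - 1) z) + h (i + 1) i ((E.d i (i + 1)).hom z) = y • z

variable {E}

theorem null_cone_self (x : A) : Null (cone E x) x := by
  refine ⟨fun i j => (LinearMap.inl A (E.X (j + 1)) (E.X j)) ∘ₗ cst E i (j + 1) ∘ₗ
    LinearMap.snd A (E.X (i + 1)) (E.X i), fun i z => ?_⟩
  obtain ⟨u, v⟩ := z
  show coneD E x (i - 1) i (cst E i (i - 1 + 1) v, (0 : E.X (i - 1))) +
    ((cst E (i + 1) (i + 1) (x • cst E (i + 1) (i + 1) u + (E.d i (i + 1)).hom v), (0 : E.X i)) :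
      E.X (i + 1) × E.X i) = x • ((u, v) : E.X (i + 1) × E.X i)
  have h1 : ∀ k : ℤ, k = i → (E.d k (i + 1)).hom (cst E i k v) = (E.d i (i + 1)).hom v ∧
      cst E k i (cst E i k v) = v := by
    rintro k rfl
    simp [cst_self]
  obtain ⟨h1, h2⟩ := h1 (i - 1 + 1) (by omega)
  rw [coneD_apply, h1, h2, cst_self, LinearMap.id_apply, map_zero, Prod.smul_mk]
  refine Prod.ext ?_ ?_
  · show -(E.d i (i + 1)).hom v + (x • u + (E.d i (i + 1)).hom v) = x • u
    abel
  · show x • v + 0 + 0 = x • v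
    simp

theorem null_cone {y : A} (x : A) (hy : Null E y) : Null (cone E x) y := by
  obtain ⟨h, hh⟩ := hy
  refine ⟨fun i j => (LinearMap.inl A (E.X (j + 1)) (E.X j)) ∘ₗ (-h (i + 1) (j + 1)) ∘ₗ
      LinearMap.fst A (E.X (i + 1)) (E.X i) +
    (LinearMap.inr A (E.X (j + 1)) (E.X j)) ∘ₗ h i j ∘ₗ LinearMap.snd A (E.X (i + 1)) (E.X i),
    fun i z => ?_⟩
  obtain ⟨u, v⟩ := z
  show coneD E x (i - 1) i
      (((-h (i + 1) (i - 1 + 1) u, 0) : E.X (i - 1 + 1) × E.X (i - 1)) + (0, h i (i - 1) v)) +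
    (((-h (i + 1 + 1) (i + 1) (-(E.d (i + 1) (i + 1 + 1)).hom u), 0) : E.X (i + 1) × E.X i) +
      (0, h (i + 1) i (x • cst E (i + 1) (i + 1) u + (E.d i (i + 1)).hom v))) =
    y • ((u, v) : E.X (i + 1) × E.X i)
  have h1 : ∀ k : ℤ, k = i → (E.d k (i + 1)).hom (h (i + 1) k u) = (E.d i (i + 1)).hom (h (i + 1) i u) ∧
      cst E k i (h (i + 1) k u) = h (i + 1) i u := by
    rintro k rfl
    simp [cst_self]
  obtain ⟨h1, h2⟩ := h1 (i - 1 + 1) (by omega)
  have hv := hh i v
  have hu' : ∀ k : ℤ, k = i → (E.d k (i + 1)).hom (h (i + 1) k u) +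
      h (i + 1 + 1) (i + 1) ((E.d (i + 1) (i + 1 + 1)).hom u) = y • u := by
    rintro k rfl
    have := hh (k + 1) u
    revert this
    generalize hm : k + 1 - 1 = m
    obtain rfl : m = k := by omega
    exact id
  have hu := hu' i rfl
  simp only [Prod.mk_add_mk, add_zero, zero_add, coneD_apply, map_neg, h1, h2, neg_neg, cst_self,
    LinearMap.id_apply, map_add, map_smul, Prod.smul_mk, smul_neg]
  refine Prod.ext ?_ ?_
  · exact hu
  · show -(x • h (i + 1) i u) + (E.d (i - 1) i).hom (h i (i - 1) v) +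
      (x • h (i + 1) i u + h (i + 1) i ((E.d i (i + 1)).hom v)) = y • v
    rw [← hv]
    abel

theorem baer_prod {M N : Type u} [AddCommGroup M] [Module A M] [AddCommGroup N] [Module A N]
    (hM : Module.Baer A M) (hN : Module.Baer A N) : Module.Baer A (M × N) := fun L g => by
  obtain ⟨g₁, h₁⟩ := hM L (LinearMap.fst A M N ∘ₗ g)
  obtain ⟨g₂, h₂⟩ := hN L (LinearMap.snd A M N ∘ₗ g)
  exact ⟨g₁.prod g₂, fun z hz => Prod.ext (h₁ z hz) (h₂ z hz)⟩

variable (E)

/-- The cohomology of `E` in degree `i`. -/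
abbrev Hc (i : ℤ) : Type u := cyc E i ⧸ LinearMap.range (piE E i)

theorem nonempty_Hc_equiv (i : ℤ) : Nonempty (E.homology i ≃ₗ[A] Hc E i) := by
  let S := E.sc' (i - 1) i (i + 1)
  let e : E.homology i ≅ S.moduleCatLeftHomologyData.H :=
    E.homologyIsoSc' (i - 1) i (i + 1) (by simp) (by simp) ≪≫ S.moduleCatHomologyIso
  exact ⟨e.toLinearEquiv.trans (Submodule.quotEquivOfEq _ _ rfl)⟩

variable {E} [IsNoetherianRing A]

theorem finite_Hc_cone (x : A) (i : ℤ) [Module.Finite A (Hc E i)] [Module.Finite A (Hc E (i + 1))] :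
    Module.Finite A (Hc (cone E x) i) := by
  let f0 : cyc E i →ₗ[A] cyc (cone E x) i :=
    (LinearMap.inr A (E.X (i + 1)) (E.X i) ∘ₗ (cyc E i).subtype).codRestrict (cyc (cone E x) i)
      fun v => by
        show coneD E x i (i + 1) ((0 : E.X (i + 1)), (v : E.X i)) = 0
        rw [coneD_apply, show (E.d i (i + 1)).hom (v : E.X i) = 0 from v.2]
        simp
  let g0 : cyc (cone E x) i →ₗ[A] cyc E (i + 1) :=
    (LinearMap.fst A (E.X (i + 1)) (E.X i) ∘ₗ (cyc (cone E x) i).subtype).codRestrict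
      (cyc E (i + 1)) fun z => by
        obtain ⟨⟨u, v⟩, hc⟩ := z
        exact neg_eq_zero.1 (congrArg Prod.fst hc)
  let f : Hc E i →ₗ[A] Hc (cone E x) i := Submodule.mapQ _ _ f0 (by
    rintro _ ⟨w, rfl⟩
    refine ⟨((0, w) : E.X (i - 1 + 1) × E.X (i - 1)), Subtype.ext ?_⟩
    show coneD E x (i - 1) i (0, w) = ((0 : E.X (i + 1)), (E.d (i - 1) i).hom w)
    rw [coneD_apply]
    simp)
  let g : Hc (cone E x) i →ₗ[A] Hc E (i + 1) := Submodule.mapQ _ _ g0 (by
    rintro _ ⟨w, rfl⟩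
    obtain ⟨p, q⟩ := w
    refine ⟨-(cst E (i - 1 + 1) (i + 1 - 1) p), Subtype.ext ?_⟩
    show (E.d (i + 1 - 1) (i + 1)).hom (-(cst E (i - 1 + 1) (i + 1 - 1) p)) =
      -(E.d (i - 1 + 1) (i + 1)).hom p
    rw [map_neg]
    congr 1
    generalize hk : i + 1 - 1 = k
    obtain rfl : k = i - 1 + 1 := by omega
    rw [cst_self]
    rfl)
  have hex : LinearMap.ker g ≤ LinearMap.range f := by
    intro z hz
    obtain ⟨⟨⟨u, v⟩, hc⟩, rfl⟩ := Submodule.Quotient.mk_surjective _ z
    obtain ⟨p, hp⟩ := (Submodule.Quotient.mk_eq_zero _).1 hz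
    have hp' : (E.d (i + 1 - 1) (i + 1)).hom p = u := congrArg Subtype.val hp
    have h1 : ∀ k : ℤ, k = i + 1 - 1 → (E.d k (i + 1)).hom (cst E (i + 1 - 1) k p) = u ∧
        ∀ l : ℤ, l = k → cst E k l (cst E (i + 1 - 1) k p) = cst E (i + 1 - 1) l p := by
      rintro k rfl
      refine ⟨by rw [cst_self]; exact hp', ?_⟩
      rintro l rfl
      rw [cst_self]
      rfl
    obtain ⟨h1, h2⟩ := h1 (i - 1 + 1) (by omega)
    let w : (cone E x).X (i - 1) :=
      ((cst E (i + 1 - 1) (i - 1 + 1) p, 0) : E.X (i - 1 + 1) × E.X (i - 1))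
    have hw : (piE (cone E x) i w : (cone E x).X i) =
        ((-u, x • cst E (i + 1 - 1) i p) : E.X (i + 1) × E.X i) := by
      show coneD E x (i - 1) i (cst E (i + 1 - 1) (i - 1 + 1) p, (0 : E.X (i - 1))) = _
      rw [coneD_apply, h1, h2 i (by omega)]
      simp
    let v' : E.X i := v + x • cst E (i + 1 - 1) i p
    have hsum : ((u, v) : E.X (i + 1) × E.X i) + (-u, x • cst E (i + 1 - 1) i p) =
        ((0 : E.X (i + 1)), v') := by simp [v']
    have hv' : (E.d i (i + 1)).hom v' = 0 := by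
      have hc0 : ((cone E x).d i (i + 1)).hom (((u, v) : E.X (i + 1) × E.X i)) = 0 := hc
      have hw0 : ((cone E x).d i (i + 1)).hom
          ((-u, x • cst E (i + 1 - 1) i p) : E.X (i + 1) × E.X i) = 0 := by
        rw [← hw]; exact (piE (cone E x) i w).2
      have h0 : coneD E x i (i + 1) ((0 : E.X (i + 1)), v') = 0 := by
        rw [← hsum, map_add]
        exact (congrArg₂ (· + ·) hc0 hw0).trans (add_zero _)
      have := congrArg Prod.snd h0
      rw [coneD_apply] at this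
      simpa using this
    refine ⟨Submodule.Quotient.mk ⟨v', hv'⟩, (Submodule.Quotient.eq _).2 ⟨w, Subtype.ext ?_⟩⟩
    rw [hw]
    show ((-u, x • cst E (i + 1 - 1) i p) : E.X (i + 1) × E.X i) =
      ((0 : E.X (i + 1)), v') - (u, v)
    rw [← hsum]
    abel
  refine ⟨Submodule.fg_of_fg_map_of_fg_inf_ker g ?_ ?_⟩
  · exact IsNoetherian.noetherian _
  · rw [top_inf_eq]
    haveI : Module.Finite A (LinearMap.range f) := Module.Finite.range f
    haveI : IsNoetherian A (LinearMap.range f) := isNoetherian_of_isNoetherianRing_of_finite A _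
    exact isNoetherian_submodule.1 inferInstance _ hex

end LcCxLib

end
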